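import Groth.Agent.AdicRing.Basic
import Mathlib.RingTheory.MvPolynomial.Homogeneous
import Mathlib.RingTheory.Polynomial.Basic
import Mathlib.RingTheory.Ideal.Quotient.Noetherian
import Mathlib.RingTheory.FiniteType

/-!
# An adically complete ring with Noetherian quotient and finitely generated ideal is Noetherian
-/

namespace Groth.Agent.AdicRing

open MvPolynomial

universe u v w

variable {A : Type u} [CommRing A]

theorem prod_pow_mem_pow {σ : Type*} (a : σ → A) (J : Ideal A) (ha : ∀ i, a i ∈ J) (c : σ →₀ ℕ) :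
    (c.prod fun i k => a i ^ k) ∈ J ^ c.degree := by
  rw [Finsupp.degree_apply, ← Finset.prod_pow_eq_pow_sum, Finsupp.prod]
  exact Ideal.prod_mem_prod fun i _ => Ideal.pow_mem_pow (ha i) _

theorem aeval_mem_of_isHomogeneous {r : ℕ} (a : Fin r → A) (J K : Ideal A) (ha : ∀ i, a i ∈ J)
    {d : ℕ} (E : MvPolynomial (Fin r) A) (hE : E.IsHomogeneous d) (hK : ∀ c, coeff c E ∈ K) :
    aeval a E ∈ K * J ^ d := by
  rw [E.as_sum, map_sum]
  refine Ideal.sum_mem _ fun c hc => ?_
  rw [aeval_monomial]
  refine Ideal.mul_mem_mul (hK c) ?_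
  have : c.degree = d := by
    have := hE (mem_support_iff.1 hc)
    rwa [Finsupp.degree_eq_weight_one]
  exact this ▸ prod_pow_mem_pow a J ha c

theorem exists_isHomogeneous_of_mem_pow {r : ℕ} (a : Fin r → A) (J : Ideal A)
    (ha : Ideal.span (Set.range a) = J) :
    ∀ (d : ℕ), ∀ x ∈ J ^ d, ∃ P : MvPolynomial (Fin r) A, P.IsHomogeneous d ∧ aeval a P = x := by
  intro d
  induction d with
  | zero => exact fun x _ => ⟨C x, isHomogeneous_C _ x, by simp⟩
  | succ d ih =>
    intro x hx
    rw [pow_succ] at hx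
    refine Submodule.mul_induction_on hx (fun y hy z hz => ?_) (fun y z hy hz => ?_)
    · obtain ⟨P, hP, rfl⟩ := ih y hy
      rw [← ha] at hz
      obtain ⟨c, rfl⟩ := (Submodule.mem_span_range_iff_exists_fun A).1 hz
      refine ⟨P * ∑ i, C (c i) * X i, hP.mul ?_, by simp [map_sum, smul_eq_mul]⟩
      refine IsHomogeneous.sum _ _ _ fun i _ => ?_
      simpa using (isHomogeneous_C (Fin r) (c i)).mul (isHomogeneous_X A i)
    · obtain ⟨P, hP, rfl⟩ := hy
      obtain ⟨Q, hQ, rfl⟩ := hz
      exact ⟨P + Q, hP.add hQ, map_add _ _ _⟩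

theorem homogeneousComponent_mul_of_isHomogeneous {r e : ℕ} (C G : MvPolynomial (Fin r) A)
    (hG : G.IsHomogeneous e) (d : ℕ) :
    homogeneousComponent d (C * G) = if e ≤ d then homogeneousComponent (d - e) C * G else 0 := by
  conv_lhs => rw [← sum_homogeneousComponent C, Finset.sum_mul, map_sum]
  simp only [homogeneousComponent_of_mem
    ((homogeneousComponent_isHomogeneous _ C).mul hG : IsHomogeneous _ _)]
  split
  · next h =>
    rw [Finset.sum_eq_single (d - e)]
    · rw [if_pos (by omega)]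
    · intro i _ hi; rw [if_neg (by omega)]
    · intro hi
      rw [if_pos (by omega), homogeneousComponent_eq_zero _ _
        (by simp only [Finset.mem_range] at hi; omega), zero_mul]
  · exact Finset.sum_eq_zero fun i _ => if_neg (by omega)

/-- If `J` is contained in `K + J ^ 2` with `K ≤ J` finitely generated, then `J` is finitely
generated, when the ring is `J`-adically complete. -/
theorem fg_of_le_sup_sq (J K : Ideal A) [IsAdicComplete J A] (hK : K.FG) (hKJ : K ≤ J)
    (h : J ≤ K ⊔ J ^ 2) : J = K := by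
  refine le_antisymm (fun x hx => ?_) hKJ
  obtain ⟨r, a, ha⟩ := Submodule.fg_iff_exists_fin_generating_family.1 hK
  let φ : (Fin r → A) →ₗ[A] A := Fintype.linearCombination A a
  have hφ : LinearMap.range φ = K := by rw [Fintype.range_linearCombination, ha]
  have hlev : ∀ d, (J ^ (d + 1) : Ideal A) ≤
      Submodule.map φ (J ^ d • ⊤) ⊔ J ^ (d + 2) := fun d => by
    rw [Submodule.map_smul'', Submodule.map_top, hφ, smul_eq_mul]
    calc J ^ (d + 1) = J ^ d * J := pow_succ J d
      _ ≤ J ^ d * (K ⊔ J ^ 2) := Ideal.mul_mono_right h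
      _ = J ^ d * K ⊔ J ^ (d + 2) := by rw [Ideal.mul_sup, ← pow_add]
  have step : ∀ (d : ℕ) (e : Fin r → A), x - φ e ∈ J ^ (d + 1) →
      ∃ c ∈ (J ^ d • ⊤ : Submodule A (Fin r → A)), x - φ (e + c) ∈ J ^ (d + 2) := by
    intro d e he
    obtain ⟨_, ⟨c, hc, rfl⟩, z, hz, hsum⟩ := Submodule.mem_sup.1 (hlev d he)
    refine ⟨c, hc, ?_⟩
    rwa [map_add, ← sub_sub, ← hsum, add_sub_cancel_left]
  choose c hc hcx using step
  let E : ∀ d : ℕ, {e : Fin r → A // x - φ e ∈ J ^ (d + 1)} := fun d =>
    Nat.rec ⟨0, by simpa using hx⟩ (fun j Ej => ⟨_, hcx j Ej.1 Ej.2⟩) d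
  have hdiff : ∀ d, (E d).1 - (E (d + 1)).1 ∈ (J ^ d • ⊤ : Submodule A (Fin r → A)) := by
    intro d
    change (E d).1 - ((E d).1 + c d (E d).1 (E d).2) ∈ _
    rw [sub_add_cancel_left]
    exact neg_mem (hc _ _ _)
  have hcauchy : ∀ {i j}, i ≤ j →
      (E i).1 ≡ (E j).1 [SMOD (J ^ i • ⊤ : Submodule A (Fin r → A))] := by
    intro i j hij
    induction j, hij using Nat.le_induction with
    | base => rfl
    | succ j hij ih =>
      exact ih.trans (SModEq.sub_mem.2 (Submodule.smul_mono_left (Ideal.pow_le_pow_right hij)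
        (hdiff j)))
  have := isPrecomplete_pi J (A := A) (Fin r)
  obtain ⟨L, hL⟩ := IsPrecomplete.prec this hcauchy
  have hxL : x = φ L := by
    refine sub_eq_zero.1 (IsHausdorff.haus ‹IsAdicComplete J A›.toIsHausdorff _ fun d => ?_)
    rw [SModEq.zero, smul_eq_mul, Ideal.mul_top,
      show x - φ L = (x - φ (E d).1) + φ ((E d).1 - L) by rw [map_sub]; abel]
    refine add_mem (Ideal.pow_le_pow_right (Nat.le_succ d) (E d).2) ?_
    have h1 := Submodule.mem_map_of_mem (f := φ) (SModEq.sub_mem.1 (hL d))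
    rw [Submodule.map_smul''] at h1
    have h2 := Submodule.smul_mono le_rfl le_top h1
    rwa [smul_eq_mul, Ideal.mul_top] at h2
  rw [hxL, ← hφ]
  exact ⟨L, rfl⟩

/-- An adically complete ring with finitely generated ideal and Noetherian quotient is Noetherian. -/
theorem isNoetherianRing_of_isAdicComplete (J : Ideal A) (hJ : J.FG) [IsAdicComplete J A]
    [IsNoetherianRing (A ⧸ J)] : IsNoetherianRing A := by
  obtain ⟨r, a, ha⟩ := Submodule.fg_iff_exists_fin_generating_family.1 hJ
  have haJ : ∀ i, a i ∈ J := fun i => ha ▸ Submodule.subset_span ⟨i, rfl⟩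
  refine (isNoetherianRing_iff_ideal_fg A).2 fun 𝔞 => ?_
  set red := MvPolynomial.map (σ := Fin r) (Ideal.Quotient.mk J)
  let S : Set (MvPolynomial (Fin r) (A ⧸ J)) := {F | ∃ d P, IsHomogeneous P d ∧ red P = F ∧
    aeval a P ∈ (𝔞 ⊔ J ^ (d + 1))}
  obtain ⟨T, hTS, hT⟩ := (Submodule.fg_span_iff_fg_span_finset_subset S).1
    (IsNoetherian.noetherian (Ideal.span S))
  choose dT PT hPT hPTred hPTa using fun F : T => hTS F.2
  have hb : ∀ F : T, ∃ b ∈ 𝔞, b ∈ J ^ dT F ∧ aeval a (PT F) - b ∈ J ^ (dT F + 1) := by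
    intro F
    obtain ⟨b, hb, z, hz, hsum⟩ := Submodule.mem_sup.1 (hPTa F)
    have h1 : aeval a (PT F) ∈ J ^ dT F := by
      have := aeval_mem_of_isHomogeneous a J ⊤ haJ (PT F) (hPT F) (fun _ => trivial)
      rwa [Ideal.top_mul] at this
    refine ⟨b, hb, ?_, by rw [← hsum, add_sub_cancel_left]; exact hz⟩
    rw [show b = aeval a (PT F) - z by rw [← hsum]; abel]
    exact sub_mem h1 (Ideal.pow_le_pow_right (Nat.le_succ _) hz)
  choose b hb hbJ hbP using hb
  -- one step of approximation
  have step : ∀ (d : ℕ), ∀ x ∈ 𝔞, x ∈ J ^ d → ∃ c : T → A,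
      (∀ F, c F ∈ J ^ (d - dT F)) ∧ x - ∑ F, c F * b F ∈ J ^ (d + 1) := by
    intro d x hx hxd
    obtain ⟨P, hP, rfl⟩ := exists_isHomogeneous_of_mem_pow a J ha d x hxd
    have hmem : red P ∈ Ideal.span (Set.range (Subtype.val : T → _)) := by
      rw [Subtype.range_coe_subtype, Finset.setOfPred_mem]
      show red P ∈ Submodule.span _ (T : Set _)
      rw [← hT]
      exact Submodule.subset_span ⟨d, P, hP, rfl, Submodule.mem_sup_left hx⟩
    obtain ⟨C₀, hC₀⟩ := (Submodule.mem_span_range_iff_exists_fun _).1 hmem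
    choose C hC using fun F => MvPolynomial.map_surjective (Ideal.Quotient.mk J)
      Ideal.Quotient.mk_surjective (C₀ F)
    set Q : T → MvPolynomial (Fin r) A := fun F =>
      if dT F ≤ d then homogeneousComponent (d - dT F) (C F) else 0
    set E := P - ∑ F, Q F * PT F
    have hQ : ∀ F, Q F * PT F = homogeneousComponent d (C F * PT F) := fun F => by
      rw [homogeneousComponent_mul_of_isHomogeneous _ _ (hPT F)]
      by_cases h : dT F ≤ d <;> simp [Q, h]
    have hEh : E.IsHomogeneous d := by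
      refine hP.sub (IsHomogeneous.sum _ _ _ fun F _ => ?_)
      rw [hQ]; exact homogeneousComponent_isHomogeneous _ _
    have hEJ : ∀ c, coeff c E ∈ J := fun c => by
      have hE : E = homogeneousComponent d (P - ∑ F, C F * PT F) := by
        rw [map_sub, map_sum, homogeneousComponent_eq_self hP]
        simp only [E, hQ]
      have hz : red (P - ∑ F, C F * PT F) = 0 := by
        simp only [map_sub, map_sum, map_mul, sub_eq_zero, red] at hPTred ⊢
        rw [← hC₀]
        exact Finset.sum_congr rfl fun F _ => by rw [hC, hPTred, smul_eq_mul]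
      rw [hE, coeff_homogeneousComponent]
      split
      · rw [← Ideal.Quotient.eq_zero_iff_mem, ← coeff_map]
        rw [show MvPolynomial.map (Ideal.Quotient.mk J) _ = 0 from hz, coeff_zero]
      · exact J.zero_mem
    refine ⟨fun F => aeval a (Q F), fun F => ?_, ?_⟩
    · by_cases h : dT F ≤ d
      · simp only [Q, if_pos h]
        have := aeval_mem_of_isHomogeneous a J ⊤ haJ _
          (homogeneousComponent_isHomogeneous (d - dT F) (C F)) (fun _ => trivial)
        rwa [Ideal.top_mul] at this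
      · simp [Q, h]
    · have heq : aeval a P - ∑ F, aeval a (Q F) * b F =
          aeval a E + ∑ F, aeval a (Q F) * (aeval a (PT F) - b F) := by
        simp only [E, map_sub, map_sum, map_mul, mul_sub, Finset.sum_sub_distrib]; abel
      rw [heq]
      refine add_mem ?_ (Ideal.sum_mem _ fun F _ => ?_)
      · have := aeval_mem_of_isHomogeneous a J J haJ E hEh hEJ
        rwa [← pow_succ'] at this
      · by_cases h : dT F ≤ d
        · simp only [Q, if_pos h]
          have h1 := aeval_mem_of_isHomogeneous a J ⊤ haJ _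
            (homogeneousComponent_isHomogeneous (d - dT F) (C F)) (fun _ => trivial)
          rw [Ideal.top_mul] at h1
          have := Ideal.mul_mem_mul h1 (hbP F)
          rwa [← pow_add, show d - dT F + (dT F + 1) = d + 1 by omega] at this
        · simp [Q, h]
  classical
  refine ⟨Finset.univ.image b, ?_⟩
  refine le_antisymm (Submodule.span_le.2 fun y hy => ?_) fun x hx => ?_
  · simp only [Finset.coe_image, Finset.coe_univ, Set.image_univ, Set.mem_range] at hy
    obtain ⟨F, rfl⟩ := hy
    exact hb F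
  choose c hc hcx using step
  have hsub : ∀ e : T → A, x - ∑ F, e F * b F ∈ 𝔞 := fun e =>
    sub_mem hx (Ideal.sum_mem _ fun F _ => Ideal.mul_mem_left _ _ (hb F))
  let E : ∀ d : ℕ, {e : T → A // x - ∑ F, e F * b F ∈ J ^ d} := fun d =>
    Nat.rec ⟨0, by simp⟩
      (fun j Ej => ⟨Ej.1 + c j _ (hsub Ej.1) Ej.2, by
        have := hcx j _ (hsub Ej.1) Ej.2
        simpa [add_mul, Finset.sum_add_distrib, sub_sub] using this⟩) d
  have hdiff : ∀ d F, (E d).1 F - (E (d + 1)).1 F ∈ J ^ (d - dT F) := by
    intro d F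
    change (E d).1 F - ((E d).1 F + c d _ (hsub (E d).1) (E d).2 F) ∈ _
    rw [sub_add_cancel_left]
    exact neg_mem (hc _ _ _ _ F)
  have hcauchy : ∀ F {i j}, i ≤ j → (E i).1 F - (E j).1 F ∈ J ^ (i - dT F) := by
    intro F i j hij
    induction j, hij using Nat.le_induction with
    | base => simp
    | succ j hij ih =>
      have := add_mem ih (Ideal.pow_le_pow_right (show i - dT F ≤ j - dT F by omega) (hdiff j F))
      simpa using this
  choose L hL using fun F => IsPrecomplete.prec (I := J) (M := A)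
    ‹IsAdicComplete J A›.toIsPrecomplete
    (f := fun n => (E (n + dT F)).1 F) fun {i j} hij => by
      rw [SModEq.sub_mem, smul_eq_mul, Ideal.mul_top]
      simpa using hcauchy F (show i + dT F ≤ j + dT F by omega)
  have hEL : ∀ d F, (E d).1 F - L F ∈ J ^ (d - dT F) := fun d F => by
    have h1 := hcauchy F (show d ≤ d + dT F by omega)
    have h2 := SModEq.sub_mem.1 (hL F d)
    rw [smul_eq_mul, Ideal.mul_top] at h2
    simpa using add_mem h1 (Ideal.pow_le_pow_right (show d - dT F ≤ d by omega) h2)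
  have hxL : x = ∑ F, L F * b F := by
    refine sub_eq_zero.1 (IsHausdorff.haus ‹IsAdicComplete J A›.toIsHausdorff _ fun d => ?_)
    rw [SModEq.zero, smul_eq_mul, Ideal.mul_top,
      show x - ∑ F, L F * b F = (x - ∑ F, (E d).1 F * b F) + ∑ F, ((E d).1 F - L F) * b F by
        simp [sub_mul, Finset.sum_sub_distrib]]
    refine add_mem (E d).2 (Ideal.sum_mem _ fun F _ => ?_)
    have := Ideal.mul_mem_mul (hEL d F) (hbJ F)
    rw [← pow_add] at this
    exact Ideal.pow_le_pow_right (by omega) this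
  rw [hxL]
  refine Ideal.sum_mem _ fun F _ => Ideal.mul_mem_left _ _ (Submodule.subset_span ?_)
  simp

end Groth.Agent.AdicRing
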