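import Groth.Agent.FSchLib.Completion

/-!
# Maps of completions that are bijective on all levels
-/

universe u

namespace Groth.Agent.AdicRing

variable {S T : Type u} [CommRing S] [CommRing T] (I : Ideal S) (K : Ideal T) (g : S →+* T)

/-- A map of rings which is bijective modulo all powers of the ideals induces a bijection of
completions. -/
theorem bijective_complMap_of_levels (h : I.map g ≤ K)
    (hb : ∀ n, Function.Bijective
      (Ideal.quotientMap (K ^ n) g (FSch.pow_le_comap_pow_of_map_le I K g h n))) :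
    Function.Bijective (FSch.complMap I K g h) := by
  refine ⟨fun x y hxy => AdicCompletion.ext_evalₐ fun n => (hb n).1 ?_, fun y => ?_⟩
  · rw [← FSchLib.evalₐ_complMap I K g h n x, ← FSchLib.evalₐ_complMap I K g h n y, hxy]
  let F : (n : ℕ) → AdicCompletion K T →+* S ⧸ I ^ n := fun n =>
    (RingEquiv.ofBijective _ (hb n)).symm.toRingHom.comp (AdicCompletion.evalₐ K n).toRingHom
  have hF : ∀ n z, Ideal.quotientMap (K ^ n) g (FSch.pow_le_comap_pow_of_map_le I K g h n) (F n z) =
      AdicCompletion.evalₐ K n z := fun n z =>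
    (RingEquiv.ofBijective _ (hb n)).apply_symm_apply _
  have hFc : ∀ {m n : ℕ} (hle : m ≤ n), (Ideal.Quotient.factorPow I hle).comp (F n) = F m := by
    intro m n hle
    refine RingHom.ext fun z => (hb m).1 ?_
    rw [hF m z, RingHom.comp_apply]
    obtain ⟨s, hs⟩ := Ideal.Quotient.mk_surjective (F n z)
    obtain ⟨c, rfl⟩ := AdicCompletion.mk_surjective K T z
    have h1 := hF n (AdicCompletion.mk K T c)
    rw [← hs, Ideal.quotientMap_mk, AdicCompletion.evalₐ_mk, Ideal.Quotient.eq] at h1
    rw [← hs, Ideal.Quotient.factorPow, Ideal.Quotient.factor_mk, Ideal.quotientMap_mk,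
      AdicCompletion.evalₐ_mk, Ideal.Quotient.eq]
    have h2 : c n - c m ∈ K ^ m := by
      have h3 := c.2 hle
      rw [SModEq.sub_mem, smul_eq_mul, Ideal.mul_top] at h3
      exact neg_sub (c m) (c n) ▸ (K ^ m).neg_mem h3
    have h4 := add_mem (Ideal.pow_le_pow_right hle h1) h2
    rwa [sub_add_sub_cancel] at h4
  refine ⟨AdicCompletion.liftRingHom I F hFc y, AdicCompletion.ext_evalₐ fun n => ?_⟩
  rw [FSchLib.evalₐ_complMap, AdicCompletion.evalₐ_liftRingHom]
  exact hF n y

end Groth.Agent.AdicRing
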