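import Mathlib.RingTheory.AdicCompletion.Basic
import Mathlib.RingTheory.AdicCompletion.Functoriality
import Mathlib.RingTheory.AdicCompletion.Noetherian
import Mathlib.RingTheory.Finiteness.Ideal
import Mathlib.RingTheory.Noetherian.Basic

/-!
# Basic facts on adically complete modules
-/

namespace Groth.Agent.AdicRing

open Submodule

universe u v w

variable {A : Type u} [CommRing A] (I : Ideal A)

/-- A quotient of a precomplete module is precomplete. -/
theorem isPrecomplete_of_surjective {M : Type v} {N : Type w} [AddCommGroup M] [Module A M]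
    [AddCommGroup N] [Module A N] [IsPrecomplete I M] (f : M →ₗ[A] N)
    (hf : Function.Surjective f) : IsPrecomplete I N := by
  refine ⟨fun g hg => ?_⟩
  have hmap : ∀ n, (I ^ n • ⊤ : Submodule A N) = Submodule.map f (I ^ n • ⊤) := fun n => by
    rw [Submodule.map_smul'', Submodule.map_top, LinearMap.range_eq_top.2 hf]
  have hd : ∀ n, ∃ d ∈ (I ^ n • ⊤ : Submodule A M), f d = g (n + 1) - g n := fun n => by
    have := (SModEq.sub_mem.1 (hg (Nat.le_succ n)).symm)
    rw [hmap n] at this
    exact this
  choose d hdmem hd using hd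
  obtain ⟨m₀, hm₀⟩ := hf (g 0)
  let s : ℕ → M := fun n => m₀ + ∑ i ∈ Finset.range n, d i
  have hfs : ∀ n, f (s n) = g n := by
    intro n
    induction n with
    | zero => simp [s, hm₀]
    | succ n ih =>
      have : s (n + 1) = s n + d n := by simp [s, Finset.sum_range_succ, add_assoc]
      rw [this, map_add, ih, hd]; abel
  have hs : ∀ {m n}, m ≤ n → s m ≡ s n [SMOD (I ^ m • ⊤ : Submodule A M)] := by
    intro m n hmn
    induction n, hmn using Nat.le_induction with
    | base => rfl
    | succ n hmn ih =>
      refine ih.trans (SModEq.sub_mem.2 ?_)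
      have : s n - s (n + 1) = -d n := by simp [s, Finset.sum_range_succ]
      rw [this]
      exact neg_mem (smul_mono_left (Ideal.pow_le_pow_right hmn) (hdmem n))
  obtain ⟨L, hL⟩ := IsPrecomplete.prec ‹_› hs
  refine ⟨f L, fun n => SModEq.sub_mem.2 ?_⟩
  rw [hmap n, ← hfs n, ← map_sub]
  exact Submodule.mem_map_of_mem (SModEq.sub_mem.1 (hL n))

/-- `x ∈ J • ⊤` in a finite product of copies of the ring iff all coordinates are in `J`. -/
theorem mem_smul_top_pi_iff {ι : Type w} [Finite ι] (J : Ideal A) (x : ι → A) :
    x ∈ (J • ⊤ : Submodule A (ι → A)) ↔ ∀ i, x i ∈ J := by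
  classical
  cases nonempty_fintype ι
  refine ⟨fun h i => ?_, fun h => ?_⟩
  · refine smul_induction_on h (fun r hr y _ => ?_) (fun y z hy hz => ?_)
    · exact J.mul_mem_right _ hr
    · exact add_mem hy hz
  · rw [pi_eq_sum_univ x]
    exact Submodule.sum_mem _ fun i _ => smul_mem_smul (h i) mem_top

/-- Finite free modules over a precomplete ring are precomplete. -/
theorem isPrecomplete_pi [IsPrecomplete I A] (ι : Type w) [Finite ι] :
    IsPrecomplete I (ι → A) := by
  refine ⟨fun g hg => ?_⟩
  have h : ∀ i, ∃ L : A, ∀ n, g n i ≡ L [SMOD (I ^ n • ⊤ : Submodule A A)] := fun i =>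
    IsPrecomplete.prec ‹_› fun {m n} hmn => by
      have := (mem_smul_top_pi_iff (I ^ m) _).1 (SModEq.sub_mem.1 (hg hmn)) i
      rw [SModEq.sub_mem]
      simpa [smul_eq_mul, Ideal.mul_top] using this
  choose L hL using h
  refine ⟨L, fun n => SModEq.sub_mem.2 ((mem_smul_top_pi_iff (I ^ n) _).2 fun i => ?_)⟩
  simpa [smul_eq_mul, Ideal.mul_top] using SModEq.sub_mem.1 (hL i n)

theorem isHausdorff_pi [IsHausdorff I A] (ι : Type w) [Finite ι] :
    IsHausdorff I (ι → A) := by
  refine ⟨fun x hx => funext fun i => IsHausdorff.haus ‹_› _ fun n => SModEq.zero.2 ?_⟩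
  simpa [smul_eq_mul, Ideal.mul_top] using
    (mem_smul_top_pi_iff (I ^ n) _).1 (SModEq.zero.1 (hx n)) i

theorem isAdicComplete_pi [IsAdicComplete I A] (ι : Type w) [Finite ι] :
    IsAdicComplete I (ι → A) :=
  { isHausdorff_pi I ι, isPrecomplete_pi I ι with }

/-- Finite modules over a precomplete ring are precomplete. -/
theorem isPrecomplete_of_finite [IsPrecomplete I A] (M : Type v) [AddCommGroup M] [Module A M]
    [Module.Finite A M] : IsPrecomplete I M := by
  obtain ⟨n, f, hf⟩ := Module.Finite.exists_fin' A M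
  have := isPrecomplete_pi I (A := A) (Fin n)
  exact isPrecomplete_of_surjective I f hf

/-- Finite modules over a Noetherian adically complete ring are adically complete. -/
theorem isAdicComplete_of_finite [IsNoetherianRing A] [IsAdicComplete I A] (M : Type v)
    [AddCommGroup M] [Module A M] [Module.Finite A M] : IsAdicComplete I M :=
  { IsHausdorff.of_le_jacobson (M := M) I (IsAdicComplete.le_jacobson_bot I),
    isPrecomplete_of_finite I M with }

/-- If `N ⊆ P + I • N` then `⊤ = P + I ^ n • ⊤` for all `n`. -/
theorem sup_pow_smul_top_eq_top {M : Type v} [AddCommGroup M] [Module A M] (P : Submodule A M)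
    (h : P ⊔ I • (⊤ : Submodule A M) = ⊤) (n : ℕ) : P ⊔ I ^ n • (⊤ : Submodule A M) = ⊤ := by
  induction n with
  | zero => simp
  | succ n ih =>
    have h1 : I • (⊤ : Submodule A M) ≤ P ⊔ I ^ (n + 1) • ⊤ := by
      calc I • (⊤ : Submodule A M) = I • (P ⊔ I ^ n • ⊤) := by rw [ih]
        _ ≤ _ := by
          rw [Submodule.smul_sup, ← Submodule.mul_smul, ← pow_succ']
          exact sup_le_sup_right Submodule.smul_le_right _
    rw [eq_top_iff]
    exact h.ge.trans (sup_le le_sup_left h1)

/-- A map from a precomplete module to a Hausdorff one, surjective modulo `I`, is surjective. -/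
theorem surjective_of_sup_smul_top {M : Type v} {N : Type w} [AddCommGroup M] [Module A M]
    [AddCommGroup N] [Module A N] [IsPrecomplete I M] [IsHausdorff I N] (f : M →ₗ[A] N)
    (h : LinearMap.range f ⊔ I • (⊤ : Submodule A N) = ⊤) : Function.Surjective f := by
  apply surjective_of_mkQ_comp_surjective (I := I)
  rw [LinearMap.coe_comp, ← LinearMap.coe_comp, ← LinearMap.range_eq_top, LinearMap.range_comp]
  refine Submodule.map_injective_of_injective (f := (LinearMap.id : (N ⧸ (I • ⊤ : Submodule A N)) →ₗ[A] _))
    Function.injective_id ?_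
  simp [Submodule.map_mkQ_eq_top, sup_comm, h]

/-- Over an `I`-adically precomplete ring, a Hausdorff module finite modulo `I` is finite. -/
theorem finite_of_finite_quotient [IsPrecomplete I A] (M : Type v) [AddCommGroup M] [Module A M]
    [IsHausdorff I M] (h : Module.Finite A (M ⧸ (I • ⊤ : Submodule A M))) :
    Module.Finite A M := by
  obtain ⟨n, f, hf⟩ := Module.Finite.exists_fin' A (M ⧸ (I • ⊤ : Submodule A M))
  obtain ⟨g, hg⟩ := Module.projective_lifting_property (I • ⊤ : Submodule A M).mkQ f
    (Submodule.mkQ_surjective _)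
  have := isPrecomplete_pi I (A := A) (Fin n)
  have : Function.Surjective g :=
    surjective_of_mkQ_comp_surjective (I := I) (by rw [hg]; exact hf)
  exact Module.Finite.of_surjective g this

end Groth.Agent.AdicRing
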