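import Groth.Agent.AdicRing.LocComplete
import Groth.Agent.FlatCrit.Inj
import Mathlib.RingTheory.Flat.FaithfullyFlat.Algebra
import Mathlib.RingTheory.Flat.Localization
import Mathlib.RingTheory.RingHom.Flat

/-!
# Maps out of completed principal localizations
-/

universe u

namespace Groth.Agent.AdicRing

variable {A : Type u} [CommRing A] [IsNoetherianRing A] (K : Ideal A) (g : A)
  {D : Type u} [CommRing D]

/-- Two maps out of a completed localization into a Hausdorff ring agreeing on the base are equal. -/
theorem compLoc_hom_ext (J : Ideal D) [IsHausdorff J D] {φ₁ φ₂ : CompLoc K g →+* D}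
    (h : ∀ a, φ₁ (algebraMap A (CompLoc K g) a) = φ₂ (algebraMap A (CompLoc K g) a))
    (hJ : ∀ a ∈ K, φ₁ (algebraMap A (CompLoc K g) a) ∈ J) : φ₁ = φ₂ := by
  let S := Localization.Away g
  have hS : φ₁.comp (algebraMap S (CompLoc K g)) = φ₂.comp (algebraMap S (CompLoc K g)) :=
    IsLocalization.ringHom_ext (.powers g) (RingHom.ext fun a => by
      simp only [RingHom.comp_apply, ← IsScalarTower.algebraMap_apply]
      exact h a)
  have hle : ∀ φ : CompLoc K g →+* D, (∀ a ∈ K, φ (algebraMap A (CompLoc K g) a) ∈ J) → ∀ (n : ℕ)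
      (z : CompLoc K g), z ∈ ((K.map (algebraMap A S)).map (algebraMap S (CompLoc K g))) ^ n →
        φ z ∈ J ^ n := by
    intro φ hφ n z hz
    have h1 : (K.map (algebraMap A S)).map (algebraMap S (CompLoc K g)) ≤ J.comap φ := by
      rw [Ideal.map_map, ← IsScalarTower.algebraMap_eq, Ideal.map_le_iff_le_comap]
      exact fun a ha => hφ a ha
    exact Ideal.le_comap_pow φ n (Ideal.pow_right_mono h1 n hz)
  refine RingHom.ext fun z => sub_eq_zero.1 (IsHausdorff.haus ‹IsHausdorff J D› _ fun n => ?_)
  rw [SModEq.zero, smul_eq_mul, Ideal.mul_top]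
  obtain ⟨s, hs⟩ := Ideal.Quotient.mk_surjective
    (AdicCompletion.evalₐ (K.map (algebraMap A S)) n z)
  have hz : z - algebraMap S (CompLoc K g) s ∈
      ((K.map (algebraMap A S)).map (algebraMap S (CompLoc K g))) ^ n := by
    rw [← FSchLib.ker_evalₐ (K.map (algebraMap A S)) (Ideal.FG.map (IsNoetherian.noetherian K) _) n,
      RingHom.mem_ker]
    change AdicCompletion.evalₐ _ n (z - algebraMap S (CompLoc K g) s) = 0
    rw [map_sub, FSchLib.evalₐ_algebraMap, hs, sub_self]
  have h2 := sub_mem (hle φ₁ hJ n _ hz) (hle φ₂ (fun a ha => h a ▸ hJ a ha) n _ hz)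
  rw [map_sub, map_sub] at h2
  have h3 : φ₁ (algebraMap S (CompLoc K g) s) = φ₂ (algebraMap S (CompLoc K g) s) :=
    RingHom.congr_fun hS s
  rw [h3, sub_sub_sub_cancel_right] at h2
  exact h2

theorem exists_compLoc_hom (φ : A →+* D) (hg : IsUnit (φ g)) (J : Ideal D) [IsAdicComplete J D]
    (hJ : K.map φ ≤ J) : ∃ Φ : CompLoc K g →+* D, ∀ a, Φ (algebraMap A (CompLoc K g) a) = φ a := by
  let S := Localization.Away g
  let φS : S →+* D := IsLocalization.Away.lift g hg
  have hφS : ∀ a, φS (algebraMap A S a) = φ a := IsLocalization.Away.lift_eq g hg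
  have hle : (K.map (algebraMap A S)).map φS ≤ J := by
    rw [Ideal.map_map]
    exact (le_of_eq (congrArg (fun ψ => Ideal.map ψ K) (RingHom.ext hφS))).trans hJ
  refine ⟨(AdicCompletion.ofAlgEquiv J).symm.toRingEquiv.toRingHom.comp
    (FSch.complMap (K.map (algebraMap A S)) J φS hle), fun a => ?_⟩
  change (AdicCompletion.ofAlgEquiv J).symm
    (FSch.complMap (K.map (algebraMap A S)) J φS hle (algebraMap A (CompLoc K g) a)) = φ a
  rw [IsScalarTower.algebraMap_apply A S (CompLoc K g), FSchLib.complMap_algebraMap, hφS]
  exact (AlgEquiv.symm_apply_eq _).2 rfl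

/-- A map between completed localizations of the same ring over the identity is flat. -/
theorem flat_compLoc_hom (h : A) (ι : CompLoc K g →+* CompLoc K h)
    (hι : ∀ a, ι (algebraMap A (CompLoc K g) a) = algebraMap A (CompLoc K h) a)
    (hg : IsUnit (algebraMap A (Localization.Away h) g)) : ι.Flat := by
  let S := Localization.Away g
  let T := Localization.Away h
  haveI : IsNoetherianRing S := IsLocalization.isNoetherianRing (.powers g) _ ‹_›
  haveI : IsNoetherianRing T := IsLocalization.isNoetherianRing (.powers h) _ ‹_›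
  let j : S →+* T := IsLocalization.Away.lift g hg
  have hj : ∀ a, j (algebraMap A S a) = algebraMap A T a := IsLocalization.Away.lift_eq g hg
  have hjflat : j.Flat := by
    letI : Algebra S T := j.toAlgebra
    haveI : IsScalarTower A S T := IsScalarTower.of_algebraMap_eq fun a => (hj a).symm
    haveI : Module.Flat A T := IsLocalization.flat T (.powers h)
    exact (Module.flat_iff_of_isLocalization S (.powers g) T).2 inferInstance
  have hK : (K.map (algebraMap A S)).map j = K.map (algebraMap A T) := by
    rw [Ideal.map_map]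
    exact congrArg (fun ψ => Ideal.map ψ K) (RingHom.ext hj)
  haveI := isAdicComplete_compLoc K h
  have : ι = FSch.complMap (K.map (algebraMap A S)) (K.map (algebraMap A T)) j hK.le := by
    refine compLoc_hom_ext K g (K.map (algebraMap A (CompLoc K h))) (fun a => ?_) fun a ha => ?_
    · rw [hι, IsScalarTower.algebraMap_apply A S (CompLoc K g), FSchLib.complMap_algebraMap, hj,
        ← IsScalarTower.algebraMap_apply]
    · rw [hι]
      exact Ideal.mem_map_of_mem _ ha
  rw [this]
  exact FSchLib.flat_complMap _ _ j hjflat hK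

/-- Flatness descends along a flat local homomorphism of the target. -/
theorem flat_of_flat_comp_of_isLocalHom {R S T : Type u} [CommRing R] [CommRing S] [CommRing T]
    [IsLocalRing S] [IsLocalRing T] (f : R →+* S) (j : S →+* T) [IsLocalHom j] (hj : j.Flat)
    (hfj : (j.comp f).Flat) : f.Flat := by
  letI : Algebra R S := f.toAlgebra
  letI : Algebra S T := j.toAlgebra
  letI : Algebra R T := (j.comp f).toAlgebra
  haveI : IsScalarTower R S T := IsScalarTower.of_algebraMap_eq fun _ => rfl
  haveI : Module.Flat S T := hj
  haveI : Module.Flat R T := hfj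
  haveI : IsLocalHom (algebraMap S T) := ‹IsLocalHom j›
  haveI : Module.FaithfullyFlat S T := Module.FaithfullyFlat.of_flat_of_isLocalHom
  exact FlatCrit.flat_of_flat_of_faithfullyFlat (R := R) (S := S) (M := T)

/-- The map of local rings induced by a flat map is flat. -/
theorem flat_localRingHom {S T : Type u} [CommRing S] [CommRing T] (j : S →+* T) (hj : j.Flat)
    (P : Ideal T) [P.IsPrime] (p : Ideal S) [p.IsPrime] (hp : p = P.comap j) :
    (Localization.localRingHom p P j hp).Flat := by
  letI : Algebra S T := j.toAlgebra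
  haveI : Module.Flat S T := hj
  letI : Algebra (Localization.AtPrime p) (Localization.AtPrime P) :=
    (Localization.localRingHom p P j hp).toAlgebra
  haveI : IsScalarTower S (Localization.AtPrime p) (Localization.AtPrime P) :=
    IsScalarTower.of_algebraMap_eq fun s => by
      rw [IsScalarTower.algebraMap_apply S T (Localization.AtPrime P)]
      exact (Localization.localRingHom_to_map p P j hp s).symm
  haveI : Module.Flat S (Localization.AtPrime P) :=
    Module.Flat.trans S T (Localization.AtPrime P)
  exact (Module.flat_iff_of_isLocalization (Localization.AtPrime p) p.primeCompl _).2 inferInstance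

end Groth.Agent.AdicRing
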