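import Groth.Agent.FSchLib.Completion
import Groth.Agent.AdicRing.Basic

/-!
# Quotients of a completion by extended ideals with finite quotient
-/

universe u

namespace Groth.Agent.AdicRing

variable {A : Type u} [CommRing A] [IsNoetherianRing A] (I : Ideal A) [IsAdicComplete I A]
  (S : Type u) [CommRing S] [Algebra A S] [IsNoetherianRing S]

/-- If `S ⧸ a` is finite over the complete ring `A`, then completing `S` does not change it. -/
theorem bijective_quotientMap_completion (a : Ideal S) [Module.Finite A (S ⧸ a)] :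
    Function.Bijective (Ideal.quotientMap
      (a.map (algebraMap S (AdicCompletion (I.map (algebraMap A S)) S)))
      (algebraMap S (AdicCompletion (I.map (algebraMap A S)) S)) Ideal.le_comap_map) := by
  let C := AdicCompletion (I.map (algebraMap A S)) S
  haveI : IsNoetherianRing C := Matlis6.isNoetherianRing_adicCompletion _
  have hfg : (I.map (algebraMap A S)).FG := Ideal.FG.map (IsNoetherian.noetherian I) _
  haveI : IsAdicComplete (I.map (algebraMap A C)) C := by
    have h := AdicCompletion.isAdicComplete_self (I.map (algebraMap A S)) hfg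
    rw [Ideal.map_map, ← IsScalarTower.algebraMap_eq] at h
    exact h
  refine ⟨?_, ?_⟩
  · refine (injective_iff_map_eq_zero _).2 fun x hx => ?_
    obtain ⟨s, rfl⟩ := Ideal.Quotient.mk_surjective x
    rw [Ideal.quotientMap_mk, Ideal.Quotient.eq_zero_iff_mem] at hx
    have := isAdicComplete_of_finite I (S ⧸ a)
    refine IsHausdorff.haus this.toIsHausdorff _ fun n => ?_
    rw [SModEq.zero]
    let K : Ideal S := a ⊔ (I.map (algebraMap A S)) ^ n
    let Φ : C →+* S ⧸ K := (Ideal.Quotient.factor (S := (I.map (algebraMap A S)) ^ n)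
      (T := K) le_sup_right).comp (AdicCompletion.evalₐ (I.map (algebraMap A S)) n).toRingHom
    have hΦ : ∀ r, Φ (algebraMap S C r) = Ideal.Quotient.mk _ r := fun r => by
      change Ideal.Quotient.factor (le_sup_right : (I.map (algebraMap A S)) ^ n ≤ K) (AdicCompletion.evalₐ _ n (algebraMap S C r)) = _
      rw [FSchLib.evalₐ_algebraMap, Ideal.Quotient.factor_mk]
    have : a.map (algebraMap S C) ≤ RingHom.ker Φ := Ideal.map_le_iff_le_comap.2 fun r hr => by
      change Φ (algebraMap S C r) = 0
      rw [hΦ, Ideal.Quotient.eq_zero_iff_mem]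
      exact Ideal.mem_sup_left hr
    have h1 : Φ (algebraMap S C s) = 0 := this hx
    rw [hΦ, Ideal.Quotient.eq_zero_iff_mem, Submodule.mem_sup] at h1
    obtain ⟨y, hy, z, hz, rfl⟩ := h1
    rw [map_add, Ideal.Quotient.eq_zero_iff_mem.2 hy, zero_add]
    rw [← Ideal.map_pow] at hz
    have hz' : z ∈ ((I ^ n) • ⊤ : Submodule A S) := by
      rw [Ideal.smul_top_eq_map]
      exact hz
    have h2 := Submodule.mem_map_of_mem (f := (Ideal.Quotient.mkₐ A a).toLinearMap) hz'
    rw [Submodule.map_smul''] at h2
    exact Submodule.smul_mono le_rfl le_top h2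
  · let P := a.map (algebraMap S C)
    haveI : IsHausdorff I (C ⧸ P) := by
      have h1 := isAdicComplete_of_finite (I.map (algebraMap A C)) (C ⧸ P)
      exact ((IsAdicComplete.map_algebraMap_iff I (C ⧸ P)).1 h1).toIsHausdorff
    haveI : IsPrecomplete I (S ⧸ a) := (isAdicComplete_of_finite I (S ⧸ a)).toIsPrecomplete
    let g : (S ⧸ a) →ₗ[A] C ⧸ P :=
      (Ideal.quotientMapₐ P (IsScalarTower.toAlgHom A S C) Ideal.le_comap_map).toLinearMap
    refine surjective_of_sup_smul_top (I := I) g ((Submodule.eq_top_iff').2 fun y => ?_)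
    obtain ⟨c, rfl⟩ := Ideal.Quotient.mk_surjective y
    obtain ⟨s, hs⟩ := Ideal.Quotient.mk_surjective
      (AdicCompletion.evalₐ (I.map (algebraMap A S)) 1 c)
    refine Submodule.mem_sup.2 ⟨g (Ideal.Quotient.mk a s), ⟨_, rfl⟩,
      Ideal.Quotient.mk P (c - algebraMap S C s), ?_, ?_⟩
    · have h1 : c - algebraMap S C s ∈ (I.map (algebraMap A S)).map (algebraMap S C) := by
        have := FSchLib.ker_evalₐ (I.map (algebraMap A S)) hfg 1
        replace this := this.trans (pow_one _)
        rw [← this, RingHom.mem_ker]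
        change AdicCompletion.evalₐ _ 1 (c - algebraMap S C s) = 0
        rw [map_sub, FSchLib.evalₐ_algebraMap, hs, sub_self]
      rw [Ideal.map_map, ← IsScalarTower.algebraMap_eq] at h1
      have h4 : (c - algebraMap S C s) ∈ (I • ⊤ : Submodule A C) := by
        rw [Ideal.smul_top_eq_map]
        exact h1
      have h5 := Submodule.mem_map_of_mem (f := (Ideal.Quotient.mkₐ A P).toLinearMap) h4
      rw [Submodule.map_smul''] at h5
      exact Submodule.smul_mono le_rfl le_top h5
    · change Ideal.Quotient.mk P (algebraMap S C s) + _ = _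
      rw [← map_add, add_sub_cancel]

omit [IsNoetherianRing A] in
/-- Finiteness of the quotients by powers. -/
theorem finite_quotient_pow (a : Ideal S) [Module.Finite A (S ⧸ a)] (k : ℕ) :
    Module.Finite A (S ⧸ a ^ k) := by
  induction k with
  | zero =>
    rw [pow_zero, Ideal.one_eq_top]
    haveI : Subsingleton (S ⧸ (⊤ : Ideal S)) := Ideal.Quotient.subsingleton_iff.2 rfl
    infer_instance
  | succ k ih =>
    let N : Submodule S S := a ^ k
    let f : (S ⧸ a ^ (k + 1)) →ₗ[A] S ⧸ a ^ k :=
      (Ideal.Quotient.factorₐ A (Ideal.pow_le_pow_right k.le_succ)).toLinearMap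
    haveI : Module.Finite S (↥N ⧸ (a • ⊤ : Submodule S N)) := inferInstance
    haveI : Module.Finite A (↥N ⧸ (a • ⊤ : Submodule S N)) :=
      Module.Finite.trans (R := A) (S ⧸ a) (↥N ⧸ (a • ⊤ : Submodule S N))
    let j₀ : ↥N →ₗ[S] S ⧸ a ^ (k + 1) := (Submodule.mkQ (a ^ (k + 1))).comp N.subtype
    have hj₀ : (a • ⊤ : Submodule S N) ≤ LinearMap.ker j₀ := by
      rw [Submodule.smul_le]
      intro r hr x _
      rw [LinearMap.mem_ker]
      change Submodule.Quotient.mk (p := a ^ (k + 1)) (r * (x : S)) = 0
      rw [Submodule.Quotient.mk_eq_zero, pow_succ']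
      exact Ideal.mul_mem_mul hr x.2
    let j : (↥N ⧸ (a • ⊤ : Submodule S N)) →ₗ[A] S ⧸ a ^ (k + 1) :=
      ((a • ⊤ : Submodule S N).liftQ j₀ hj₀).restrictScalars A
    have hker : (LinearMap.range j) = LinearMap.ker f := by
      refine le_antisymm ?_ fun y hy => ?_
      · rintro _ ⟨z, rfl⟩
        obtain ⟨x, rfl⟩ := Submodule.mkQ_surjective _ z
        exact Ideal.Quotient.eq_zero_iff_mem.2 x.2
      · obtain ⟨s, rfl⟩ := Ideal.Quotient.mk_surjective y
        exact ⟨Submodule.Quotient.mk ⟨s, Ideal.Quotient.eq_zero_iff_mem.1 hy⟩, rfl⟩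
    haveI : Module.Finite A (LinearMap.ker f) := hker ▸ Module.Finite.range j
    haveI : Module.Finite A ((S ⧸ a ^ (k + 1)) ⧸ LinearMap.ker f) :=
      Module.Finite.equiv (LinearMap.quotKerEquivOfSurjective f
        (Ideal.Quotient.factor_surjective (Ideal.pow_le_pow_right k.le_succ))).symm
    exact Module.Finite.of_submodule_quotient (LinearMap.ker f)

end Groth.Agent.AdicRing
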