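import Mathlib.RingTheory.Flat.Stability
import Mathlib.RingTheory.RingHom.Flat
import Mathlib.RingTheory.Flat.Localization
import Mathlib.RingTheory.Localization.BaseChange
import Mathlib.RingTheory.TensorProduct.Quotient

/-!
# Flatness over the base of localizations of a base change
-/

open scoped TensorProduct

universe u

namespace Groth.Agent.AdicRing

/-- A flat algebra over `R ⊗ B₀` in which `M` becomes invertible is flat over `R`, if `M⁻¹B₀` is
flat over the base. -/
theorem flat_of_tensor_localization {A₀ B₀ : Type u} [CommRing A₀] [CommRing B₀] [Algebra A₀ B₀]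
    (M : Submonoid B₀) (B₁ : Type u) [CommRing B₁] [Algebra B₀ B₁] [Algebra A₀ B₁]
    [IsScalarTower A₀ B₀ B₁] [IsLocalization M B₁] [Module.Flat A₀ B₁]
    (R : Type u) [CommRing R] [Algebra A₀ R]
    (W : Type u) [CommRing W] [Algebra (R ⊗[A₀] B₀) W] [Algebra R W]
    [IsScalarTower R (R ⊗[A₀] B₀) W] [Module.Flat (R ⊗[A₀] B₀) W]
    (hu : ∀ m ∈ M, IsUnit (algebraMap (R ⊗[A₀] B₀) W ((1 : R) ⊗ₜ[A₀] m))) :
    Module.Flat R W := by
  let φ : R ⊗[A₀] B₀ →ₐ[R] R ⊗[A₀] B₁ :=
    Algebra.TensorProduct.map (AlgHom.id R R) (IsScalarTower.toAlgHom A₀ B₀ B₁)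
  letI : Algebra (R ⊗[A₀] B₀) (R ⊗[A₀] B₁) := φ.toRingHom.toAlgebra
  haveI : IsScalarTower R (R ⊗[A₀] B₀) (R ⊗[A₀] B₁) :=
    IsScalarTower.of_algebraMap_eq fun r => (φ.commutes r).symm
  let N : Submonoid (R ⊗[A₀] B₀) := M.map (Algebra.TensorProduct.includeRight (R := A₀) (A := R))
  haveI : IsLocalization N (R ⊗[A₀] B₁) :=
    IsLocalization.tensorProduct_tensorProduct_right A₀ R M B₁ (RingHom.ext fun b => rfl)
  have hN : ∀ y : N, IsUnit (algebraMap (R ⊗[A₀] B₀) W y) := by
    rintro ⟨y, m, hm, rfl⟩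
    exact hu m hm
  letI : Algebra (R ⊗[A₀] B₁) W := (IsLocalization.lift (S := R ⊗[A₀] B₁) hN).toAlgebra
  haveI : IsScalarTower (R ⊗[A₀] B₀) (R ⊗[A₀] B₁) W :=
    IsScalarTower.of_algebraMap_eq fun x => (IsLocalization.lift_eq hN x).symm
  haveI : IsScalarTower R (R ⊗[A₀] B₁) W := IsScalarTower.of_algebraMap_eq fun r => by
    rw [IsScalarTower.algebraMap_apply R (R ⊗[A₀] B₀) W,
      IsScalarTower.algebraMap_apply R (R ⊗[A₀] B₀) (R ⊗[A₀] B₁),
      ← IsScalarTower.algebraMap_apply (R ⊗[A₀] B₀) (R ⊗[A₀] B₁) W]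
  haveI : Module.Flat (R ⊗[A₀] B₁) W :=
    (Module.flat_iff_of_isLocalization (R ⊗[A₀] B₁) N W).2 inferInstance
  exact Module.Flat.trans R (R ⊗[A₀] B₁) W

/-- The quotient of a flat algebra by an extended ideal is flat over the quotient. -/
theorem flat_quotient_map {S L : Type u} [CommRing S] [CommRing L] [Algebra S L] [Module.Flat S L]
    (J : Ideal S) : Module.Flat (S ⧸ J) (L ⧸ J.map (algebraMap S L)) :=
  Module.Flat.of_linearEquiv (Algebra.TensorProduct.quotIdealMapEquivQuotTensor L J).toLinearEquiv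

/-- The same, for any name of the extended ideal. -/
theorem flat_quotientMap_of_eq {S L : Type u} [CommRing S] [CommRing L] [Algebra S L] [Module.Flat S L]
    (J : Ideal S) (K : Ideal L) (hK : J.map (algebraMap S L) = K) :
    (Ideal.quotientMap K (algebraMap S L) (Ideal.map_le_iff_le_comap.1 hK.le)).Flat := by
  subst hK
  exact RingHom.flat_algebraMap_iff.2 (flat_quotient_map J)

end Groth.Agent.AdicRing
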