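import Groth.Agent.AdicRing.ComplHom
import Groth.Agent.AdicRing.RigBase
import Groth.Agent.AdicRing.CompLocMap
import Groth.Agent.FlatCrit.Tor
import Mathlib.RingTheory.IntegralClosure.IsIntegralClosure.Basic

/-!
# The universal property of completed tensor products
-/

open scoped TensorProduct

universe u

namespace Groth.Agent.AdicRing

variable {A : Type u} [CommRing A] (I : Ideal A) {B C D : Type u} [CommRing B] [CommRing C]
  [CommRing D] [Algebra A B] [Algebra A C] [Algebra A D]

/-- `D` has the universal property of the completed tensor product of `C` and `B` over `A`. -/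
structure IsCTensor (inC : C →ₐ[A] D) (inB : B →ₐ[A] D) : Prop where
  exists_hom : ∀ (X : Type u) [CommRing X] [Algebra A X] [IsAdicComplete (I.map (algebraMap A X)) X]
    (g : C →ₐ[A] X) (k : B →ₐ[A] X), ∃ Θ : D →ₐ[A] X, (∀ c, Θ (inC c) = g c) ∧ ∀ b, Θ (inB b) = k b
  hom_ext : ∀ (X : Type u) [CommRing X] [Algebra A X] [IsHausdorff (I.map (algebraMap A X)) X]
    (φ₁ φ₂ : D →ₐ[A] X), (∀ c, φ₁ (inC c) = φ₂ (inC c)) → (∀ b, φ₁ (inB b) = φ₂ (inB b)) → φ₁ = φ₂

/-- The completion of the tensor product has the universal property. -/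
theorem isCTensor_completion (K : Ideal (C ⊗[A] B)) (hK : K = I.map (algebraMap A (C ⊗[A] B)))
    (hfg : K.FG) :
    IsCTensor I
      ((IsScalarTower.toAlgHom A (C ⊗[A] B) (AdicCompletion K (C ⊗[A] B))).comp
        Algebra.TensorProduct.includeLeft)
      ((IsScalarTower.toAlgHom A (C ⊗[A] B) (AdicCompletion K (C ⊗[A] B))).comp
        Algebra.TensorProduct.includeRight) where
  exists_hom X _ _ _ g k := by
    let t : C ⊗[A] B →ₐ[A] X := Algebra.TensorProduct.lift g k (fun _ _ => Commute.all _ _)
    have hKX : K.map t.toRingHom ≤ I.map (algebraMap A X) := by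
      refine (hK ▸ le_of_eq ?_)
      exact (Ideal.map_map _ _).trans (congrArg (fun φ => Ideal.map φ I) t.comp_algebraMap)
    obtain ⟨Θ, hΘ⟩ := exists_completion_hom K t.toRingHom (I.map (algebraMap A X)) hKX
    refine ⟨{ Θ with commutes' := fun a => ?_ }, fun c => ?_, fun b => ?_⟩
    · change Θ (algebraMap A _ a) = _
      rw [IsScalarTower.algebraMap_apply A (C ⊗[A] B), hΘ]
      exact t.commutes a
    · refine (hΘ _).trans ((Algebra.TensorProduct.lift_tmul _ _ _ _ _).trans ?_)
      rw [map_one, mul_one]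
    · refine (hΘ _).trans ((Algebra.TensorProduct.lift_tmul _ _ _ _ _).trans ?_)
      rw [map_one, one_mul]
  hom_ext X _ _ _ φ₁ φ₂ h₁ h₂ := by
    refine AlgHom.coe_ringHom_injective (completion_hom_ext K hfg (I.map (algebraMap A X))
      (fun t => ?_) fun t ht => ?_)
    · exact DFunLike.congr_fun (Algebra.TensorProduct.ext
        (f := φ₁.comp (IsScalarTower.toAlgHom A (C ⊗[A] B) _))
        (g := φ₂.comp (IsScalarTower.toAlgHom A (C ⊗[A] B) _)) (AlgHom.ext h₁) (AlgHom.ext h₂)) t
    · have := Ideal.mem_map_of_mem (φ₁.comp (IsScalarTower.toAlgHom A (C ⊗[A] B) _)).toRingHom ht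
      subst hK
      rw [Ideal.map_map] at this
      exact (congrArg (fun φ => Ideal.map φ I)
        (φ₁.comp (IsScalarTower.toAlgHom A (C ⊗[A] B) _)).comp_algebraMap) ▸ this

/-- The universal property passes to completed principal localizations. -/
theorem IsCTensor.compLoc [IsNoetherianRing A] [IsNoetherianRing B] [IsNoetherianRing C]
    [IsNoetherianRing D] {inC : C →ₐ[A] D} {inB : B →ₐ[A] D} (hD : IsCTensor I inC inB)
    (KB : Ideal B) (hKB : KB = I.map (algebraMap A B)) (KC : Ideal C)
    (hKC : KC = I.map (algebraMap A C))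
    (KD : Ideal D) (hKD : KD = I.map (algebraMap A D)) (f : A) (g : B) (e : C) (d : D)

    (hd : ∀ (X : Type u) [CommRing X] (θ : D →+* X), IsUnit (θ (inC e)) → IsUnit (θ d))
    [Algebra (CompLoc I f) (CompLoc KB g)] [Algebra (CompLoc I f) (CompLoc KC e)]
    [Algebra (CompLoc I f) (CompLoc KD d)]
    (inC' : CompLoc KC e →ₐ[CompLoc I f] CompLoc KD d) (inB' : CompLoc KB g →ₐ[CompLoc I f] CompLoc KD d)
    (hC' : ∀ c, inC' (algebraMap C _ c) = algebraMap D _ (inC c))
    (hB' : ∀ b, inB' (algebraMap B _ b) = algebraMap D _ (inB b))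
    (hfB : ∀ a, algebraMap (CompLoc I f) (CompLoc KB g) (algebraMap A _ a) =
      algebraMap B _ (algebraMap A B a))
    (hfC : ∀ a, algebraMap (CompLoc I f) (CompLoc KC e) (algebraMap A _ a) =
      algebraMap C _ (algebraMap A C a))
    (hfD : ∀ a, algebraMap (CompLoc I f) (CompLoc KD d) (algebraMap A _ a) =
      algebraMap D _ (algebraMap A D a)) :
    IsCTensor (I.map (algebraMap A (CompLoc I f))) inC' inB' where
  exists_hom X _ _ _ gX kX := by
    let IX : Ideal X := (I.map (algebraMap A (CompLoc I f))).map (algebraMap (CompLoc I f) X)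
    letI : Algebra A X := ((algebraMap (CompLoc I f) X).comp (algebraMap A (CompLoc I f))).toAlgebra
    have hI : I.map (algebraMap A X) = IX := (Ideal.map_map _ _).symm
    haveI : IsAdicComplete (I.map (algebraMap A X)) X := hI ▸ ‹_›
    obtain ⟨Θ, hΘC, hΘB⟩ := hD.exists_hom X
      { gX.toRingHom.comp (algebraMap C (CompLoc KC e)) with
        commutes' := fun a => (congrArg gX (hfC a).symm).trans (gX.commutes _) }
      { kX.toRingHom.comp (algebraMap B (CompLoc KB g)) with
        commutes' := fun a => (congrArg kX (hfB a).symm).trans (kX.commutes _) }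
    have hu : IsUnit (Θ d) := hd X Θ.toRingHom (by
      change IsUnit (Θ (inC e))
      rw [hΘC]
      exact (isUnit_algebraMap_compLoc KC e).map gX)
    obtain ⟨Θ', hΘ'⟩ := exists_compLoc_hom KD d Θ.toRingHom hu IX
      (le_of_eq (((congrArg (Ideal.map Θ.toRingHom) hKD).trans (Ideal.map_map _ _)).trans
        ((congrArg (fun φ => Ideal.map φ I) Θ.comp_algebraMap).trans hI)))
    have hψ : ∀ a, Θ' (algebraMap (CompLoc I f) (CompLoc KD d) a) = algebraMap (CompLoc I f) X a := by
      refine RingHom.congr_fun (f := Θ'.comp (algebraMap (CompLoc I f) (CompLoc KD d)))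
        (compLoc_hom_ext I f IX (fun a => ?_) fun a ha => ?_)
      · rw [RingHom.comp_apply, hfD, hΘ']
        exact Θ.commutes a
      · rw [RingHom.comp_apply, hfD, hΘ']
        exact (congrArg (· ∈ IX) (Θ.commutes a)).mpr (hI ▸ Ideal.mem_map_of_mem _ ha)
    refine ⟨{ Θ' with commutes' := hψ }, ?_, ?_⟩
    · refine RingHom.congr_fun (f := Θ'.comp inC'.toRingHom) (g := gX.toRingHom)
        (compLoc_hom_ext KC e IX (fun c => ?_) fun c hc => ?_)
      · change Θ' (inC' (algebraMap C _ c)) = gX (algebraMap C _ c)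
        rw [hC', hΘ']
        exact hΘC c
      · change Θ' (inC' (algebraMap C _ c)) ∈ IX
        rw [hC', hΘ']
        have h0 := Ideal.mem_map_of_mem (Θ.comp inC).toRingHom hc
        rw [hKC, Ideal.map_map] at h0
        exact hI ▸ ((congrArg (fun φ => Ideal.map φ I) (Θ.comp inC).comp_algebraMap) ▸ h0)
    · refine RingHom.congr_fun (f := Θ'.comp inB'.toRingHom) (g := kX.toRingHom)
        (compLoc_hom_ext KB g IX (fun c => ?_) fun c hc => ?_)
      · change Θ' (inB' (algebraMap B _ c)) = kX (algebraMap B _ c)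
        rw [hB', hΘ']
        exact hΘB c
      · change Θ' (inB' (algebraMap B _ c)) ∈ IX
        rw [hB', hΘ']
        have h0 := Ideal.mem_map_of_mem (Θ.comp inB).toRingHom hc
        rw [hKB, Ideal.map_map] at h0
        exact hI ▸ ((congrArg (fun φ => Ideal.map φ I) (Θ.comp inB).comp_algebraMap) ▸ h0)
  hom_ext X _ _ _ φ₁ φ₂ h₁ h₂ := by
    let IX : Ideal X := (I.map (algebraMap A (CompLoc I f))).map (algebraMap (CompLoc I f) X)
    letI : Algebra A X := ((algebraMap (CompLoc I f) X).comp (algebraMap A (CompLoc I f))).toAlgebra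
    have hI : I.map (algebraMap A X) = IX := (Ideal.map_map _ _).symm
    haveI : IsHausdorff (I.map (algebraMap A X)) X := hI ▸ ‹_›
    have hc : ∀ φ : CompLoc KD d →ₐ[CompLoc I f] X, ∀ a,
        φ (algebraMap D (CompLoc KD d) (algebraMap A D a)) = algebraMap A X a := fun φ a => by
      rw [← hfD]
      exact φ.commutes _
    have h := hD.hom_ext X
      { φ₁.toRingHom.comp (algebraMap D (CompLoc KD d)) with commutes' := hc φ₁ }
      { φ₂.toRingHom.comp (algebraMap D (CompLoc KD d)) with commutes' := hc φ₂ }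
      (fun c => (congrArg φ₁ (hC' c).symm).trans ((h₁ _).trans (congrArg φ₂ (hC' c))))
      (fun b => (congrArg φ₁ (hB' b).symm).trans ((h₂ _).trans (congrArg φ₂ (hB' b))))
    refine AlgHom.coe_ringHom_injective (compLoc_hom_ext KD d IX (fun a => DFunLike.congr_fun h a)
      fun a ha => ?_)
    have h0 := Ideal.mem_map_of_mem (φ₁.toRingHom.comp (algebraMap D (CompLoc KD d))) ha
    exact ((congrArg (Ideal.map (φ₁.toRingHom.comp (algebraMap D (CompLoc KD d)))) hKD).trans
      ((Ideal.map_map _ _).trans ((congrArg (fun φ => Ideal.map φ I) (RingHom.ext (hc φ₁))).trans hI))).le h0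

end Groth.Agent.AdicRing

namespace Groth.Agent.AdicRing

/-- Modulo an ideal with finite quotient, a completed tensor product is an ordinary one; flatness
follows. -/
theorem quotFlat_localization_of_isCTensor {A B C D : Type u} [CommRing A] [CommRing B] [CommRing C]
    [CommRing D] (I : Ideal A) [Algebra A B] [Algebra A C] [Algebra A D] [Algebra C D] [Algebra B D]
    [IsScalarTower A C D] [IsScalarTower A B D] [IsNoetherianRing B] [IsNoetherianRing D]
    [IsAdicComplete (I.map (algebraMap A B)) B] [IsAdicComplete (I.map (algebraMap A D)) D]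
    (hD : IsCTensor I (IsScalarTower.toAlgHom A C D) (IsScalarTower.toAlgHom A B D))
    (P : Ideal C) [Module.Finite A (C ⧸ P)] (q : Ideal D) [q.IsPrime]
    (hflat : Module.Flat A (Localization.AtPrime (q.comap (algebraMap B D)))) :
    FlatCrit.QuotFlat C (Localization.AtPrime q) P := by
  let L := Localization.AtPrime q
  let r := q.comap (algebraMap B D)
  let R := C ⧸ P
  let X := R ⊗[A] B
  let inL : R →ₐ[A] X := Algebra.TensorProduct.includeLeft
  let inR : B →ₐ[A] X := Algebra.TensorProduct.includeRight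
  letI : Algebra B X := inR.toRingHom.toAlgebra
  haveI : IsScalarTower A B X := IsScalarTower.of_algebraMap_eq fun a => (inR.commutes a).symm
  haveI : Module.Finite B X := by
    let e : B ⊗[A] R ≃ₐ[B] X := AlgEquiv.ofRingEquiv
      (f := (Algebra.TensorProduct.comm A B R).toRingEquiv) fun b => by
        change Algebra.TensorProduct.comm A B R (b ⊗ₜ[A] (1 : R)) = (1 : R) ⊗ₜ[A] b
        exact Algebra.TensorProduct.comm_tmul _ _ _
    exact Module.Finite.equiv e.toLinearEquiv
  haveI : IsNoetherianRing X := IsNoetherianRing.of_finite B X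
  haveI : IsAdicComplete (I.map (algebraMap A X)) X := by
    have h1 := (IsAdicComplete.map_algebraMap_iff (S := X) (I.map (algebraMap A B)) X).2
      (isAdicComplete_of_finite (I.map (algebraMap A B)) X)
    rwa [Ideal.map_map, ← IsScalarTower.algebraMap_eq] at h1
  obtain ⟨Θ, hΘC, hΘB⟩ := hD.exists_hom X (inL.comp (Ideal.Quotient.mkₐ A P)) inR
  let J : Ideal D := P.map (algebraMap C D)
  haveI : IsAdicComplete (I.map (algebraMap A (D ⧸ J))) (D ⧸ J) := by
    have h1 := (IsAdicComplete.map_algebraMap_iff (S := D ⧸ J) (I.map (algebraMap A D)) (D ⧸ J)).2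
      (isAdicComplete_of_finite (I.map (algebraMap A D)) (D ⧸ J))
    rwa [Ideal.map_map, ← IsScalarTower.algebraMap_eq] at h1
  have hJΘ : J ≤ RingHom.ker Θ.toRingHom := Ideal.map_le_iff_le_comap.2 fun x hx => by
    change Θ ((IsScalarTower.toAlgHom A C D) x) = 0
    rw [hΘC]
    change inL (Ideal.Quotient.mk P x) = 0
    rw [Ideal.Quotient.eq_zero_iff_mem.2 hx, map_zero]
  let χ : X →ₐ[A] D ⧸ J := Algebra.TensorProduct.lift
    (Ideal.quotientMapₐ J (IsScalarTower.toAlgHom A C D) Ideal.le_comap_map)
    ((Ideal.Quotient.mkₐ A J).comp (IsScalarTower.toAlgHom A B D)) (fun _ _ => Commute.all _ _)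
  have hχL : ∀ c, χ (inL (Ideal.Quotient.mk P c)) = Ideal.Quotient.mk J (algebraMap C D c) := fun c => by
    refine (Algebra.TensorProduct.lift_tmul _ _ _ _ _).trans ?_
    rw [map_one, mul_one]
    rfl
  have hχR : ∀ b, χ (inR b) = Ideal.Quotient.mk J (algebraMap B D b) := fun b => by
    refine (Algebra.TensorProduct.lift_tmul _ _ _ _ _).trans ?_
    rw [map_one, one_mul]
    rfl
  have hleft : ∀ x, Ideal.Quotient.lift J Θ.toRingHom hJΘ (χ x) = x := by
    intro x
    induction x using TensorProduct.induction_on with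
    | zero => rw [map_zero, map_zero]
    | tmul c b =>
      obtain ⟨c, rfl⟩ := Ideal.Quotient.mk_surjective c
      rw [show (Ideal.Quotient.mk P c : R) ⊗ₜ[A] b = inL (Ideal.Quotient.mk P c) * inR b by
          change _ = ((Ideal.Quotient.mk P c : R) ⊗ₜ[A] (1 : B)) * ((1 : R) ⊗ₜ[A] b)
          rw [Algebra.TensorProduct.tmul_mul_tmul, mul_one, one_mul], map_mul, map_mul, hχL, hχR]
      exact congrArg₂ (· * ·) (hΘC c) (hΘB b)
    | add x y hx hy => rw [map_add, map_add, hx, hy]
  have hright : χ.comp Θ = Ideal.Quotient.mkₐ A J := hD.hom_ext (D ⧸ J) _ _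
    (fun c => (congrArg χ (hΘC c)).trans (hχL c)) (fun b => (congrArg χ (hΘB b)).trans (hχR b))
  have hbij : Function.Bijective χ.toRingHom :=
    ⟨Function.LeftInverse.injective hleft, fun y => by
      obtain ⟨z, rfl⟩ := Ideal.Quotient.mk_surjective y
      exact ⟨Θ z, DFunLike.congr_fun hright z⟩⟩
  let W := L ⧸ P.map (algebraMap C L)
  have hJW : J.map (algebraMap D L) = P.map (algebraMap C L) :=
    (Ideal.map_map _ _).trans (congrArg (fun φ => Ideal.map φ P) (IsScalarTower.algebraMap_eq C D L).symm)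
  haveI : Module.Flat D L := IsLocalization.flat L q.primeCompl
  let ω : X →+* W := (Ideal.quotientMap (P.map (algebraMap C L)) (algebraMap D L)
    (Ideal.map_le_iff_le_comap.1 hJW.le)).comp χ.toRingHom
  have hω : ω.Flat := RingHom.Flat.comp (RingHom.Flat.of_bijective hbij)
    (flat_quotientMap_of_eq J _ hJW)
  letI : Algebra X W := ω.toAlgebra
  haveI : Module.Flat X W := hω
  haveI : IsScalarTower R X W := IsScalarTower.of_algebraMap_eq (R := R) (S := X) (A := W) fun x => by
    obtain ⟨c, hc⟩ := Ideal.Quotient.mk_surjective (I := P) x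
    rw [← hc]
    change _ = Ideal.quotientMap (P.map (algebraMap C L)) (algebraMap D L) (Ideal.map_le_iff_le_comap.1 hJW.le)
      (χ (inL (Ideal.Quotient.mk P c)))
    rw [hχL, Ideal.quotientMap_mk]
    exact congrArg (Ideal.Quotient.mk _) (IsScalarTower.algebraMap_apply C D L c)
  have hu : ∀ s ∈ r.primeCompl, IsUnit (algebraMap X W ((1 : R) ⊗ₜ[A] s)) := fun s hs => by
    change IsUnit (Ideal.quotientMap (P.map (algebraMap C L)) (algebraMap D L) (Ideal.map_le_iff_le_comap.1 hJW.le) (χ (inR s)))
    rw [hχR, Ideal.quotientMap_mk]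
    exact (IsLocalization.map_units L (⟨algebraMap B D s, hs⟩ : q.primeCompl)).map _
  haveI : Module.Flat A (Localization.AtPrime r) := hflat
  haveI : Module.Flat R W :=
    flat_of_tensor_localization r.primeCompl (Localization.AtPrime r) R W hu
  exact FlatCrit.quotFlat_of_flat P
    (Module.Flat.of_linearEquiv (Algebra.TensorProduct.quotIdealMapEquivQuotTensor L P).toLinearEquiv.symm)

end Groth.Agent.AdicRing
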