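import Groth.Agent.FSchLib.Completion
import Groth.Agent.AdicRing.Noetherian

/-!
# Maps out of the completion of a ring along a finitely generated ideal
-/

universe u

namespace Groth.Agent.AdicRing

variable {S : Type u} [CommRing S] (K : Ideal S) {D : Type u} [CommRing D]

/-- Two maps out of a completion into a Hausdorff ring agreeing on the base are equal. -/
theorem completion_hom_ext (hK : K.FG) (J : Ideal D) [IsHausdorff J D]
    {φ₁ φ₂ : AdicCompletion K S →+* D}
    (h : ∀ a, φ₁ (algebraMap S (AdicCompletion K S) a) = φ₂ (algebraMap S (AdicCompletion K S) a))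
    (hJ : ∀ a ∈ K, φ₁ (algebraMap S (AdicCompletion K S) a) ∈ J) : φ₁ = φ₂ := by
  have hle : ∀ φ : AdicCompletion K S →+* D, (∀ a ∈ K, φ (algebraMap S (AdicCompletion K S) a) ∈ J) →
      ∀ (n : ℕ) (z : AdicCompletion K S), z ∈ (K.map (algebraMap S (AdicCompletion K S))) ^ n →
        φ z ∈ J ^ n := by
    intro φ hφ n z hz
    have h1 : K.map (algebraMap S (AdicCompletion K S)) ≤ J.comap φ :=
      Ideal.map_le_iff_le_comap.2 hφ
    exact Ideal.le_comap_pow φ n (Ideal.pow_right_mono h1 n hz)
  refine RingHom.ext fun z => sub_eq_zero.1 (IsHausdorff.haus ‹IsHausdorff J D› _ fun n => ?_)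
  rw [SModEq.zero, smul_eq_mul, Ideal.mul_top]
  obtain ⟨s, hs⟩ := Ideal.Quotient.mk_surjective (AdicCompletion.evalₐ K n z)
  have hz : z - algebraMap S (AdicCompletion K S) s ∈
      (K.map (algebraMap S (AdicCompletion K S))) ^ n := by
    rw [← FSchLib.ker_evalₐ K hK n, RingHom.mem_ker]
    change AdicCompletion.evalₐ _ n (z - algebraMap S (AdicCompletion K S) s) = 0
    rw [map_sub, FSchLib.evalₐ_algebraMap, hs, sub_self]
  have h2 := sub_mem (hle φ₁ hJ n _ hz) (hle φ₂ (fun a ha => h a ▸ hJ a ha) n _ hz)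
  rw [map_sub, map_sub, h s, sub_sub_sub_cancel_right] at h2
  exact h2

theorem exists_completion_hom (φ : S →+* D) (J : Ideal D) [IsAdicComplete J D] (hJ : K.map φ ≤ J) :
    ∃ Φ : AdicCompletion K S →+* D, ∀ a, Φ (algebraMap S (AdicCompletion K S) a) = φ a := by
  refine ⟨(AdicCompletion.ofAlgEquiv J).symm.toRingEquiv.toRingHom.comp
    (FSch.complMap K J φ hJ), fun a => ?_⟩
  change (AdicCompletion.ofAlgEquiv J).symm
    (FSch.complMap K J φ hJ (algebraMap S (AdicCompletion K S) a)) = φ a
  rw [FSchLib.complMap_algebraMap]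
  exact (AlgEquiv.symm_apply_eq _).2 rfl

theorem surjective_mk_algebraMap_completion (hK : K.FG) :
    Function.Surjective ((Ideal.Quotient.mk (K.map (algebraMap S (AdicCompletion K S)))).comp
      (algebraMap S (AdicCompletion K S))) := by
  intro y
  obtain ⟨c, rfl⟩ := Ideal.Quotient.mk_surjective y
  obtain ⟨s, hs⟩ := Ideal.Quotient.mk_surjective (AdicCompletion.evalₐ K 1 c)
  refine ⟨s, ((Ideal.Quotient.eq).2 ?_).symm⟩
  rw [← (FSchLib.ker_evalₐ K hK 1).trans (pow_one _), RingHom.mem_ker]
  change AdicCompletion.evalₐ K 1 (c - algebraMap S (AdicCompletion K S) s) = 0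
  rw [map_sub, FSchLib.evalₐ_algebraMap, hs, sub_self]

theorem isNoetherianRing_completion (hK : K.FG) [IsNoetherianRing (S ⧸ K)] :
    IsNoetherianRing (AdicCompletion K S) := by
  haveI := AdicCompletion.isAdicComplete_self K hK
  haveI : IsNoetherianRing (AdicCompletion K S ⧸ K.map (algebraMap S (AdicCompletion K S))) :=
    isNoetherianRing_of_surjective (S ⧸ K) _
      (Ideal.quotientMap _ (algebraMap S (AdicCompletion K S)) Ideal.le_comap_map)
      (fun y => by
        obtain ⟨s, rfl⟩ := surjective_mk_algebraMap_completion K hK y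
        exact ⟨Ideal.Quotient.mk K s, rfl⟩)
  exact isNoetherianRing_of_isAdicComplete (K.map (algebraMap S (AdicCompletion K S)))
    (Ideal.FG.map hK _)

end Groth.Agent.AdicRing
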