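import Groth.Agent.FSchLib.Completion
import Groth.Agent.AdicRing.Basic
import Mathlib.RingTheory.Localization.Away.Basic

/-!
# Completed principal localizations modulo a prime at which the element is a unit
-/

universe u

namespace Groth.Agent.AdicRing

variable {A : Type u} [CommRing A] [IsNoetherianRing A] (I : Ideal A)

/-- The completed principal localization `A_{f}`. -/
abbrev CompLoc (f : A) : Type u :=
  AdicCompletion (I.map (algebraMap A (Localization.Away f))) (Localization.Away f)

theorem isNoetherianRing_compLoc (f : A) : IsNoetherianRing (CompLoc I f) :=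
  haveI : IsNoetherianRing (Localization.Away f) := IsLocalization.isNoetherianRing (.powers f) _ ‹_›
  Matlis6.isNoetherianRing_adicCompletion _

theorem isAdicComplete_compLoc (f : A) :
    IsAdicComplete (I.map (algebraMap A (CompLoc I f))) (CompLoc I f) := by
  have h := AdicCompletion.isAdicComplete_self (I.map (algebraMap A (Localization.Away f)))
    (Ideal.FG.map (IsNoetherian.noetherian I) _)
  rw [Ideal.map_map, ← IsScalarTower.algebraMap_eq] at h
  exact h

variable [IsAdicComplete I A]

theorem bijective_quotientMap_compLoc (p : Ideal A) (f : A) (hf : IsUnit (Ideal.Quotient.mk p f)) :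
    Function.Bijective (Ideal.quotientMap (p.map (algebraMap A (CompLoc I f)))
      (algebraMap A (CompLoc I f)) Ideal.le_comap_map) := by
  let S := Localization.Away f
  let C := CompLoc I f
  haveI : IsNoetherianRing C := isNoetherianRing_compLoc I f
  haveI := isAdicComplete_compLoc I f
  refine ⟨?_, ?_⟩
  · refine (injective_iff_map_eq_zero _).2 fun x hx => ?_
    obtain ⟨a, rfl⟩ := Ideal.Quotient.mk_surjective x
    rw [Ideal.quotientMap_mk, Ideal.Quotient.eq_zero_iff_mem] at hx
    have := isAdicComplete_of_finite I (A ⧸ p)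
    refine IsHausdorff.haus this.toIsHausdorff _ fun n => ?_
    rw [SModEq.zero]
    have hle : p ≤ p ⊔ I ^ n := le_sup_left
    have hu : IsUnit (Ideal.Quotient.mk (p ⊔ I ^ n) f) := by
      simpa using hf.map (Ideal.Quotient.factor hle)
    let φ : S →+* A ⧸ (p ⊔ I ^ n) := IsLocalization.Away.lift f hu
    have hφ : ∀ r, φ (algebraMap A S r) = Ideal.Quotient.mk _ r :=
      IsLocalization.Away.lift_eq f hu
    have hφ0 : ∀ s ∈ (I.map (algebraMap A S)) ^ n, φ s = 0 := fun s hs => by
      rw [← Ideal.map_pow] at hs
      have : (I ^ n).map (algebraMap A S) ≤ RingHom.ker φ := Ideal.map_le_iff_le_comap.2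
        fun r hr => by
          change φ (algebraMap A S r) = 0
          rw [hφ, Ideal.Quotient.eq_zero_iff_mem]
          exact Ideal.mem_sup_right hr
      exact this hs
    let Φ : C →+* A ⧸ (p ⊔ I ^ n) := (Ideal.Quotient.lift _ φ hφ0).comp
      (AdicCompletion.evalₐ (I.map (algebraMap A S)) n).toRingHom
    have hΦ : ∀ r, Φ (algebraMap A C r) = Ideal.Quotient.mk _ r := fun r => by
      change Ideal.Quotient.lift _ φ hφ0 (AdicCompletion.evalₐ _ n (algebraMap A C r)) = _
      rw [IsScalarTower.algebraMap_apply A S C, FSchLib.evalₐ_algebraMap, Ideal.Quotient.lift_mk, hφ]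
    have : p.map (algebraMap A C) ≤ RingHom.ker Φ := Ideal.map_le_iff_le_comap.2 fun r hr => by
      change Φ (algebraMap A C r) = 0
      rw [hΦ, Ideal.Quotient.eq_zero_iff_mem]
      exact Ideal.mem_sup_left hr
    have h1 : Φ (algebraMap A C a) = 0 := this hx
    rw [hΦ, Ideal.Quotient.eq_zero_iff_mem, Submodule.mem_sup] at h1
    obtain ⟨y, hy, z, hz, rfl⟩ := h1
    rw [map_add, Ideal.Quotient.eq_zero_iff_mem.2 hy, zero_add]
    have h2 := Submodule.smul_mem_smul hz (Submodule.mem_top (R := A) (x := (1 : A ⧸ p)))
    rw [Algebra.smul_def, mul_one] at h2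
    exact h2
  · let P := p.map (algebraMap A C)
    haveI : IsHausdorff I (C ⧸ P) := by
      have h1 := isAdicComplete_of_finite (I.map (algebraMap A C)) (C ⧸ P)
      exact ((IsAdicComplete.map_algebraMap_iff I (C ⧸ P)).1 h1).toIsHausdorff
    let g : A →ₗ[A] C ⧸ P := (Ideal.Quotient.mkₐ A P).toLinearMap.comp (Algebra.linearMap A C)
    suffices hg : Function.Surjective g by
      intro y
      obtain ⟨a, rfl⟩ := hg y
      exact ⟨Ideal.Quotient.mk p a, rfl⟩
    refine surjective_of_sup_smul_top (I := I) g ((Submodule.eq_top_iff').2 fun y => ?_)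
    obtain ⟨c, rfl⟩ := Ideal.Quotient.mk_surjective y
    obtain ⟨s, hs⟩ := Ideal.Quotient.mk_surjective
      (AdicCompletion.evalₐ (I.map (algebraMap A S)) 1 c)
    obtain ⟨⟨a, m, k, hk⟩, hm⟩ := IsLocalization.surj (Submonoid.powers f) s
    obtain ⟨w, hw⟩ := Ideal.Quotient.mk_surjective hf.unit⁻¹.1
    refine Submodule.mem_sup.2 ⟨g (a * w ^ k), ⟨_, rfl⟩,
      Ideal.Quotient.mk P (c - algebraMap A C (a * w ^ k)), ?_, ?_⟩
    · have h1 : c - algebraMap S C s ∈ (I.map (algebraMap A S)).map (algebraMap S C) := by
        have := FSchLib.ker_evalₐ (I.map (algebraMap A S)) (Ideal.FG.map (IsNoetherian.noetherian I) _) 1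
        replace this := this.trans (pow_one _)
        rw [← this, RingHom.mem_ker]
        change AdicCompletion.evalₐ _ 1 (c - algebraMap S C s) = 0
        rw [map_sub, FSchLib.evalₐ_algebraMap, hs, sub_self]
      rw [Ideal.map_map, ← IsScalarTower.algebraMap_eq] at h1
      have h2 : Ideal.Quotient.mk P (algebraMap S C s - algebraMap A C (a * w ^ k)) = 0 := by
        rw [Ideal.Quotient.eq_zero_iff_mem]
        have hfw : f * w - 1 ∈ p := by
          rw [← Ideal.Quotient.eq, map_mul, hw, map_one]
          exact hf.mul_val_inv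
        have hpk : algebraMap A C (1 - (f * w) ^ k) ∈ P := Ideal.mem_map_of_mem _ (by
          rw [← Ideal.Quotient.eq, map_one, map_pow,
            (Ideal.Quotient.eq.2 hfw : Ideal.Quotient.mk p (f * w) = Ideal.Quotient.mk p 1),
            map_one, one_pow])
        have hm' : algebraMap S C s * algebraMap A C f ^ k = algebraMap A C a := by
          have hm1 : s * algebraMap A S (f ^ k) = algebraMap A S a := by
            have := hm
            simp only [← hk] at this
            exact this
          rw [← map_pow, IsScalarTower.algebraMap_apply A S C (f ^ k), ← map_mul, hm1,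
            ← IsScalarTower.algebraMap_apply]
        rw [show algebraMap S C s - algebraMap A C (a * w ^ k) =
          algebraMap S C s * algebraMap A C (1 - (f * w) ^ k) by
          simp only [map_mul, map_sub, map_one, map_pow, mul_pow]
          rw [← hm']; ring]
        exact P.mul_mem_left _ hpk
      have h3 : Ideal.Quotient.mk P (c - algebraMap A C (a * w ^ k)) =
          Ideal.Quotient.mk P (c - algebraMap S C s) := by
        rw [← sub_eq_zero, ← map_sub, ← h2]
        congr 1
        ring
      rw [h3]
      have h4 : (c - algebraMap S C s) ∈ (I • ⊤ : Submodule A C) := by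
        rw [Ideal.smul_top_eq_map]
        exact h1
      have h5 := Submodule.mem_map_of_mem (f := (Ideal.Quotient.mkₐ A P).toLinearMap) h4
      rw [Submodule.map_smul''] at h5
      exact Submodule.smul_mono le_rfl le_top h5
    · change Ideal.Quotient.mk P (algebraMap A C (a * w ^ k)) + _ = _
      rw [← map_add, add_sub_cancel]

theorem isPrime_map_compLoc (p : Ideal A) [p.IsPrime] (f : A)
    (hf : IsUnit (Ideal.Quotient.mk p f)) : (p.map (algebraMap A (CompLoc I f))).IsPrime :=
  haveI := MulEquiv.isDomain (A ⧸ p)
    (RingEquiv.ofBijective _ (bijective_quotientMap_compLoc I p f hf)).symm.toMulEquiv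
  (Ideal.Quotient.isDomain_iff_prime _).1 inferInstance

end Groth.Agent.AdicRing

namespace Groth.Agent.AdicRing

variable {A : Type u} [CommRing A] [IsNoetherianRing A] (I : Ideal A)

theorem map_le_jacobson_compLoc (f : A) :
    I.map (algebraMap A (CompLoc I f)) ≤ Ideal.jacobson ⊥ :=
  haveI := isAdicComplete_compLoc I f
  IsAdicComplete.le_jacobson_bot _

theorem finiteType_compLoc_quotient (f : A) :
    Algebra.FiniteType A (CompLoc I f ⧸ I.map (algebraMap A (CompLoc I f))) := by
  haveI : Algebra.FiniteType A (Localization.Away f) := IsLocalization.finiteType_of_monoid_fg (.powers f) _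
  refine Algebra.FiniteType.of_surjective (R := A) (A := Localization.Away f)
    ((Ideal.Quotient.mkₐ A _).comp (IsScalarTower.toAlgHom A (Localization.Away f) (CompLoc I f))) ?_
  intro y
  obtain ⟨c, rfl⟩ := Ideal.Quotient.mk_surjective y
  obtain ⟨s, hs⟩ := Ideal.Quotient.mk_surjective
    (AdicCompletion.evalₐ (I.map (algebraMap A (Localization.Away f))) 1 c)
  refine ⟨s, ((Ideal.Quotient.eq).2 ?_).symm⟩
  have h1 := (FSchLib.ker_evalₐ (I.map (algebraMap A (Localization.Away f)))
    (Ideal.FG.map (IsNoetherian.noetherian I) _) 1).trans (pow_one _)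
  rw [Ideal.map_map, ← IsScalarTower.algebraMap_eq] at h1
  rw [← h1, RingHom.mem_ker]
  change AdicCompletion.evalₐ _ 1 (c - algebraMap (Localization.Away f) (CompLoc I f) s) = 0
  rw [map_sub, FSchLib.evalₐ_algebraMap, hs, sub_self]

theorem flat_compLoc (f : A) : Module.Flat A (CompLoc I f) :=
  haveI : IsNoetherianRing (Localization.Away f) := IsLocalization.isNoetherianRing (.powers f) _ ‹_›
  Module.Flat.trans A (Localization.Away f) (CompLoc I f)

theorem isUnit_algebraMap_compLoc (f : A) : IsUnit (algebraMap A (CompLoc I f) f) := by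
  rw [IsScalarTower.algebraMap_apply A (Localization.Away f) (CompLoc I f)]
  exact (IsLocalization.Away.algebraMap_isUnit f).map _

/-- A map of completed localizations compatible with `A[1/f] → B[1/f]` is compatible with `A → B`. -/
theorem comp_algebraMap_of_comp_awayMap {B : Type u} [CommRing B] [IsNoetherianRing B] [Algebra A B]
    (K : Ideal B) (f : A) (ψ : CompLoc I f →+* CompLoc K (algebraMap A B f))
    (hψ : ψ.comp (algebraMap (Localization.Away f) (CompLoc I f)) =
      (algebraMap (Localization.Away (algebraMap A B f)) (CompLoc K (algebraMap A B f))).comp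
        (Localization.awayMap (algebraMap A B) f)) (a : A) :
    ψ (algebraMap A (CompLoc I f) a) = algebraMap B (CompLoc K (algebraMap A B f)) (algebraMap A B a) := by
  rw [IsScalarTower.algebraMap_apply A (Localization.Away f) (CompLoc I f),
    IsScalarTower.algebraMap_apply B (Localization.Away (algebraMap A B f)) (CompLoc K (algebraMap A B f))]
  refine (RingHom.congr_fun hψ _).trans ?_
  rw [RingHom.comp_apply]
  congr 1
  exact IsLocalization.map_eq _ a

end Groth.Agent.AdicRing
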