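import Groth.Agent.AdicRing.RigTFAE
import Mathlib.RingTheory.Algebraic.Integral
import Mathlib.RingTheory.Localization.Integral

/-!
# Making a rig-closed prime finite over a completed localization of the base
-/

universe u

namespace Groth.Agent.AdicRing

/-- For a rig-closed prime `q` of `B` there is `f ∈ A`, a unit modulo `q`, such that `B ⧸ q` is finite
over every complete `A`-algebra in which `f` is invertible and through which `A → B ⧸ q` factors. -/
theorem exists_finite_quotient_over {A : Type u} [CommRing A] [IsNoetherianRing A] (I : Ideal A)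
    [IsAdicComplete I A] {B : Type u} [CommRing B] [Algebra A B] [IsNoetherianRing B]
    [IsAdicComplete (I.map (algebraMap A B)) B]
    (hft : Algebra.FiniteType A (B ⧸ (I.map (algebraMap A B)))) (q : PrimeSpectrum B)
    (hq : ¬ (I.map (algebraMap A B)) ≤ q.asIdeal ∧
      ∀ y : PrimeSpectrum B, q ≤ y → ¬ (I.map (algebraMap A B)) ≤ y.asIdeal → y = q) :
    ∃ f : A, IsUnit (Ideal.Quotient.mk q.asIdeal (algebraMap A B f)) ∧
      ∀ (C : Type u) [CommRing C] [Algebra A C] [Algebra C (B ⧸ q.asIdeal)]
        [IsScalarTower A C (B ⧸ q.asIdeal)] [IsNoetherianRing C]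
        [IsAdicComplete (I.map (algebraMap A C)) C],
        IsUnit (algebraMap A C f) → Module.Finite C (B ⧸ q.asIdeal) := by
  classical
  let D := B ⧸ q.asIdeal
  obtain ⟨hdim, hmax, -⟩ := ((Groth.Agent.S8804.result B (I.map (algebraMap A B)) q).out 0 2).1 hq
  obtain ⟨m, hm⟩ := Ideal.exists_maximal D
  let J : Ideal D := I.map (algebraMap A D)
  have hJ : (I.map (algebraMap A B)).map (Ideal.Quotient.mk q.asIdeal) = J := by
    rw [Ideal.map_map]; rfl
  have hJm : J ≤ m := hJ ▸ hmax m hm ▸ Ideal.le_radical
  have hftD : Algebra.FiniteType A (D ⧸ J) := by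
    refine hft.of_surjective (Ideal.quotientMapₐ J (Ideal.Quotient.mkₐ A q.asIdeal) ?_) ?_
    · exact Ideal.map_le_iff_le_comap.1 hJ.le
    · exact fun y => by
        obtain ⟨d, rfl⟩ := Ideal.Quotient.mk_surjective y
        obtain ⟨b, rfl⟩ := Ideal.Quotient.mk_surjective d
        exact ⟨Ideal.Quotient.mk _ b, rfl⟩
  letI := Ideal.Quotient.field m
  let p0 : Ideal A := m.comap (algebraMap A D)
  haveI : Algebra.FiniteType A (D ⧸ m) :=
    hftD.of_surjective (Ideal.Quotient.factorₐ A hJm) (Ideal.Quotient.factor_surjective hJm)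
  obtain ⟨f, hfm, hint⟩ : ∃ f : A, algebraMap A D f ∉ m ∧ ∀ {S : Type u} [CommRing S] [Algebra A S]
      [Algebra S (D ⧸ m)] [IsScalarTower A S (D ⧸ m)],
      IsUnit (algebraMap A S f) → Algebra.IsIntegral S (D ⧸ m) := by
    obtain ⟨s, hs⟩ := (Algebra.FiniteType.out : (⊤ : Subalgebra A (D ⧸ m)).FG)
    let R := A ⧸ p0
    letI : Algebra R (D ⧸ m) := (Ideal.quotientMap m (algebraMap A D) le_rfl).toAlgebra
    haveI : IsScalarTower A R (D ⧸ m) := IsScalarTower.of_algebraMap_eq fun r => rfl
    have hinjR : Function.Injective (algebraMap R (D ⧸ m)) := Ideal.quotientMap_injective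
    haveI : IsDomain R := Ideal.Quotient.isDomain p0
    let F := FractionRing R
    letI : Algebra F (D ⧸ m) := (IsFractionRing.lift (K := F) hinjR).toAlgebra
    haveI : IsScalarTower R F (D ⧸ m) := IsScalarTower.of_algebraMap_eq fun r =>
      (IsLocalization.lift_eq _ r).symm
    haveI : Algebra.FiniteType R (D ⧸ m) := Algebra.FiniteType.of_restrictScalars_finiteType A R _
    haveI : Algebra.FiniteType F (D ⧸ m) := Algebra.FiniteType.of_restrictScalars_finiteType R F _
    haveI : Module.Finite F (D ⧸ m) := finite_of_finite_type_of_isJacobsonRing F (D ⧸ m)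
    have halg : ∀ x : D ⧸ m, ∃ P : Polynomial R, P ≠ 0 ∧ Polynomial.aeval x P = 0 := fun x => by
      have : IsAlgebraic R x := (IsFractionRing.isAlgebraic_iff R F (D ⧸ m)).2
        (Algebra.IsAlgebraic.isAlgebraic x)
      exact this
    choose P hP0 hP using halg
    choose c hc using fun x => Ideal.Quotient.mk_surjective (P x).leadingCoeff
    refine ⟨∏ x ∈ s, c x, fun h => ?_, fun {S} _ _ _ _ hu => ?_⟩
    · have h2 : Ideal.Quotient.mk p0 (∏ x ∈ s, c x) = 0 := Ideal.Quotient.eq_zero_iff_mem.2 h
      rw [map_prod, Finset.prod_eq_zero_iff] at h2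
      obtain ⟨x, -, hx⟩ := h2
      exact hP0 x (Polynomial.leadingCoeff_eq_zero.1 (hc x ▸ hx))
    · have hgen : ∀ x ∈ s, IsIntegral S x := fun x hx => by
        rw [map_prod] at hu
        have hcu : IsUnit (algebraMap A S (c x)) :=
          isUnit_of_dvd_unit (Finset.dvd_prod_of_mem (fun x => algebraMap A S (c x)) hx) hu
        obtain ⟨PA, hPA, hdeg⟩ : ∃ PA : Polynomial A, PA.map (Ideal.Quotient.mk p0) = P x ∧
            PA.natDegree = (P x).natDegree := by
          obtain ⟨PA, h1, h2⟩ := Polynomial.mem_lifts_and_degree_eq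
            ((Polynomial.mem_lifts (f := Ideal.Quotient.mk p0) (P x)).2
              (Polynomial.map_surjective _ Ideal.Quotient.mk_surjective (P x)))
          exact ⟨PA, h1, Polynomial.natDegree_eq_of_degree_eq h2⟩
        let PA' : Polynomial A := PA.erase PA.natDegree + Polynomial.monomial PA.natDegree (c x)
        have hmap : PA'.map (Ideal.Quotient.mk p0) = P x := by
          refine Polynomial.ext fun n => ?_
          simp only [PA', Polynomial.coeff_map, Polynomial.coeff_add, Polynomial.coeff_monomial]
          by_cases hn : n = PA.natDegree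
          · subst hn
            rw [Polynomial.erase_same, if_pos rfl, zero_add, hc, Polynomial.leadingCoeff, hdeg]
          · rw [Polynomial.erase_ne _ hn, if_neg (Ne.symm hn), add_zero, ← hPA,
              Polynomial.coeff_map]
        have hev : Polynomial.aeval x PA' = 0 := by
          rw [← hP x, ← hmap]
          exact (Polynomial.aeval_map_algebraMap R x PA').symm
        have hdeg' : PA'.natDegree ≤ PA.natDegree :=
          (Polynomial.natDegree_add_le _ _).trans (max_le
            (Polynomial.natDegree_le_iff_coeff_eq_zero.2 fun n hn => by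
              rw [Polynomial.erase_ne _ hn.ne']
              exact Polynomial.coeff_eq_zero_of_natDegree_lt hn)
            (Polynomial.natDegree_monomial_le _))
        have hcoeff : PA'.coeff PA.natDegree = c x := by
          simp [PA', Polynomial.erase_same]
        let Q : Polynomial S := Polynomial.C (hcu.unit⁻¹ : Sˣ).1 * PA'.map (algebraMap A S)
        refine ⟨Q, ?_, ?_⟩
        · refine Polynomial.monic_of_natDegree_le_of_coeff_eq_one PA.natDegree ?_ ?_
          · exact ((Polynomial.natDegree_C_mul_le _ _).trans Polynomial.natDegree_map_le).trans hdeg'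
          · rw [Polynomial.coeff_C_mul, Polynomial.coeff_map, hcoeff]
            exact hcu.val_inv_mul
        · rw [← Polynomial.aeval_def, map_mul, Polynomial.aeval_map_algebraMap, hev, mul_zero]
      refine ⟨fun x => ?_⟩
      have htop : Algebra.adjoin A (↑s : Set (D ⧸ m)) ≤ (integralClosure S (D ⧸ m)).restrictScalars A :=
        Algebra.adjoin_le fun x hx => hgen x hx
      exact htop (hs.symm ▸ (Algebra.mem_top : x ∈ (⊤ : Subalgebra A (D ⧸ m))))
  have hfu : IsUnit (Ideal.Quotient.mk q.asIdeal (algebraMap A B f)) := by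
    by_contra hc
    obtain ⟨m', hm', hfm'⟩ := exists_max_ideal_of_mem_nonunits hc
    exact hfm (((hmax m' hm').trans (hmax m hm).symm) ▸ hfm')
  refine ⟨f, hfu, fun C _ _ _ _ _ _ hu => ?_⟩
  have hIC : (I.map (algebraMap A C)).map (algebraMap C D) = J := by
    rw [Ideal.map_map, ← IsScalarTower.algebraMap_eq]
  haveI : IsAdicComplete ((I.map (algebraMap A C)).map (algebraMap C D)) D := by
    rw [hIC]
    have h1 := Groth.Agent.AdicRing.isAdicComplete_of_finite (I.map (algebraMap A B)) D
    have h2 := (IsAdicComplete.map_algebraMap_iff (S := D) (I.map (algebraMap A B)) D).2 h1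
    rwa [Ideal.Quotient.algebraMap_eq, hJ] at h2
  let q0 : PrimeSpectrum D := ⟨⊥, Ideal.isPrime_bot⟩
  have hI0 : J ≠ ⊥ := by
    rw [← hJ, Ne, Ideal.map_eq_bot_iff_le_ker, Ideal.mk_ker]
    exact hq.1
  have hq0 : ¬ ((I.map (algebraMap A C)).map (algebraMap C D)) ≤ q0.asIdeal ∧
      ∀ y : PrimeSpectrum D, q0 ≤ y → ¬ ((I.map (algebraMap A C)).map (algebraMap C D)) ≤ y.asIdeal →
        y = q0 := by
    rw [hIC]
    refine ⟨fun h => hI0 (le_bot_iff.1 h), fun y _ hy => ?_⟩
    by_contra hne
    have hy0 : y.asIdeal ≠ ⊥ := fun e => hne (PrimeSpectrum.ext e)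
    have hM := Groth.Agent.AdicRing.isMaximal_of_ringKrullDim_eq_one hdim _ hy0 y.isPrime
    exact hy (by rw [hmax _ hM, ← hJ]; exact Ideal.le_radical)
  have hftC : Algebra.FiniteType C (D ⧸ (I.map (algebraMap A C)).map (algebraMap C D)) := by
    rw [hIC]
    exact Algebra.FiniteType.of_restrictScalars_finiteType A C _
  haveI : IsScalarTower A C (D ⧸ m) := IsScalarTower.of_algebraMap_eq fun a => by
    change Ideal.Quotient.mk m (algebraMap A D a) =
      Ideal.Quotient.mk m (algebraMap C D (algebraMap A C a))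
    rw [← IsScalarTower.algebraMap_apply A C D]
  haveI := hint (S := C) hu
  haveI : Algebra.FiniteType C (D ⧸ m) := Algebra.FiniteType.of_restrictScalars_finiteType A C _
  have hmC : Module.Finite C (D ⧸ m) := Algebra.IsIntegral.finite
  have hfin := Groth.Agent.AdicRing.finite_quotient_of_forall_finite (A := C) (B := D)
    (I.map (algebraMap A C)) q0 hq0 hftC (fun m' hm' _ => by
      obtain rfl : m' = m := (hmax m' hm').trans (hmax m hm).symm
      exact hmC)
  exact Module.Finite.equiv (AlgEquiv.quotientBot C D).toLinearEquiv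

end Groth.Agent.AdicRing
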