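import Groth.Agent.AdicRing.RigFlat
import Groth.Agent.AdicRing.CompQuot
import Groth.Agent.AdicRing.CTensor
import Groth.Agent.AdicRing.RigBelow
import Groth.Agent.FlatCrit.Tor

/-!
# Rig-flatness is stable under base change
-/

universe u

namespace Groth.Agent.AdicRing

variable {A B C D : Type u} [CommRing A] [CommRing B] [CommRing C] [CommRing D]
  [IsNoetherianRing A] [IsNoetherianRing B] [IsNoetherianRing C] [IsNoetherianRing D]
  (I : Ideal A) [IsAdicComplete I A] [Algebra A B] [Algebra A C] [Algebra A D] [Algebra C D]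
  [Algebra B D] [IsScalarTower A C D] [IsScalarTower A B D]

set_option maxHeartbeats 1000000 in
/-- Base change of rig-flatness to a completed tensor product. -/
theorem rigFlat_baseChange (KB : Ideal B) (hKB : KB = I.map (algebraMap A B))
    (KC : Ideal C) (hKC : KC = I.map (algebraMap A C)) (KD : Ideal D) (hKD : KD = KC.map (algebraMap C D))
    (hftD : Algebra.FiniteType A (D ⧸ KD)) [IsAdicComplete KD D]
    (hD : IsCTensor I (IsScalarTower.toAlgHom A C D) (IsScalarTower.toAlgHom A B D))
    (hAB : ∀ (f : A) (ψf : CompLoc I f →+* CompLoc KB (algebraMap A B f)),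
      (∀ a, ψf (algebraMap A _ a) = algebraMap B _ (algebraMap A B a)) →
      ∀ q : PrimeSpectrum (CompLoc KB (algebraMap A B f)),
        (¬ KB.map (algebraMap B _) ≤ q.asIdeal ∧ ∀ y, q ≤ y → ¬ KB.map (algebraMap B _) ≤ y.asIdeal → y = q) →
        ((algebraMap _ (Localization.AtPrime q.asIdeal)).comp ψf).Flat)
    (h : C) (ψ' : CompLoc KC h →+* CompLoc KD (algebraMap C D h))
    (hψ' : ∀ c, ψ' (algebraMap C _ c) = algebraMap D _ (algebraMap C D c))
    (qe : PrimeSpectrum (CompLoc KD (algebraMap C D h)))
    (hqe : ¬ KD.map (algebraMap D _) ≤ qe.asIdeal ∧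
      ∀ y, qe ≤ y → ¬ KD.map (algebraMap D _) ≤ y.asIdeal → y = qe) :
    ((algebraMap _ (Localization.AtPrime qe.asIdeal)).comp ψ').Flat := by
  let hD0 : D := algebraMap C D h
  let D1 := CompLoc KD hD0
  haveI : IsNoetherianRing D1 := isNoetherianRing_compLoc KD hD0
  have hKDA : KD = I.map (algebraMap A D) := by
    rw [hKD, hKC, Ideal.map_map, ← IsScalarTower.algebraMap_eq]
  have hI1 : I.map (algebraMap A D1) = KD.map (algebraMap D D1) := by
    exact ((congrArg (fun φ => Ideal.map φ I) (IsScalarTower.algebraMap_eq A D D1)).trans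
      (Ideal.map_map _ _).symm).trans (congrArg (Ideal.map (algebraMap D D1)) hKDA.symm)
  haveI : IsAdicComplete (I.map (algebraMap A D1)) D1 := hI1.symm ▸ isAdicComplete_compLoc KD _
  rw [← hI1] at hqe
  haveI := qe.isPrime
  have hft1 : Algebra.FiniteType A (D1 ⧸ I.map (algebraMap A D1)) := by
    refine finiteType_of_quotient (A := A) KD ?_ hftD ?_
    · rw [IsScalarTower.algebraMap_eq D D1 (D1 ⧸ I.map (algebraMap A D1)), ← Ideal.map_map, ← hI1,
        Ideal.Quotient.algebraMap_eq, Ideal.map_quotient_self]
    · rw [hI1]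
      exact finiteType_compLoc_quotient KD _
  obtain ⟨f, hfu, hfin⟩ := exists_finite_quotient_over I hft1 qe hqe
  obtain ⟨hdim, -⟩ := ((Groth.Agent.S8804.result D1 (I.map (algebraMap A D1)) qe).out 0 1).1 hqe
  let Dq := D1 ⧸ qe.asIdeal
  let mkq : D1 →+* Dq := Ideal.Quotient.mk qe.asIdeal
  let fB : B := algebraMap A B f
  let eC : C := h * algebraMap A C f
  let eD : D := algebraMap C D eC
  let Af := CompLoc I f
  let Bf := CompLoc KB fB
  let C' := CompLoc KC eC
  let D' := CompLoc KD eD
  haveI : IsNoetherianRing Af := isNoetherianRing_compLoc I f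
  haveI : IsNoetherianRing Bf := isNoetherianRing_compLoc KB fB
  haveI : IsNoetherianRing C' := isNoetherianRing_compLoc KC eC
  haveI : IsNoetherianRing D' := isNoetherianRing_compLoc KD eD
  haveI := isAdicComplete_compLoc I f
  haveI := isAdicComplete_compLoc KB fB
  haveI := isAdicComplete_compLoc KC eC
  haveI := isAdicComplete_compLoc KD eD
  have heD : eD = hD0 * algebraMap A D f := by
    refine (map_mul (algebraMap C D) _ _).trans ?_
    rw [← IsScalarTower.algebraMap_apply A C D]
  have huC' : IsUnit (algebraMap C C' h) ∧ IsUnit (algebraMap C C' (algebraMap A C f)) :=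
    IsUnit.mul_iff.1 ((congrArg IsUnit (map_mul (algebraMap C C') h (algebraMap A C f))).mp
      (isUnit_algebraMap_compLoc KC eC))
  have huD' : IsUnit (algebraMap D D' hD0) ∧ IsUnit (algebraMap D D' (algebraMap A D f)) :=
    IsUnit.mul_iff.1 ((congrArg IsUnit ((congrArg (algebraMap D D') heD).trans
      (map_mul (algebraMap D D') _ _))).mp (isUnit_algebraMap_compLoc KD eD))
  obtain ⟨ιC, hιC⟩ := exists_compLoc_hom KC h (algebraMap C C') huC'.1
    (KC.map (algebraMap C C')) le_rfl
  obtain ⟨ιD, hιD⟩ := exists_compLoc_hom KD hD0 (algebraMap D D') huD'.1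
    (KD.map (algebraMap D D')) le_rfl
  have hKCD : KC.map ((algebraMap D D').comp (algebraMap C D)) = KD.map (algebraMap D D') := by
    exact (Ideal.map_map _ _).symm.trans (congrArg (Ideal.map (algebraMap D D')) hKD.symm)
  obtain ⟨ψA, hψA⟩ := exists_compLoc_hom I f ((algebraMap C C').comp (algebraMap A C)) huC'.2
    (KC.map (algebraMap C C')) (le_of_eq ((Ideal.map_map _ _).symm.trans (congrArg (Ideal.map (algebraMap C C')) hKC.symm)))
  obtain ⟨ψf, hψf⟩ := exists_compLoc_hom I f
    ((algebraMap B Bf).comp (algebraMap A B)) (isUnit_algebraMap_compLoc KB fB)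
    (KB.map (algebraMap B Bf)) (le_of_eq ((Ideal.map_map _ _).symm.trans (congrArg (Ideal.map (algebraMap B Bf)) hKB.symm)))
  obtain ⟨ψ2, hψ2⟩ := exists_compLoc_hom KC eC
    ((algebraMap D D').comp (algebraMap C D)) (isUnit_algebraMap_compLoc KD eD)
    (KD.map (algebraMap D D')) hKCD.le
  have hKBD : KB.map (algebraMap B D) = KD := by
    rw [hKB, Ideal.map_map, ← IsScalarTower.algebraMap_eq, hKDA]
  obtain ⟨ιB, hιB⟩ := exists_compLoc_hom KB fB ((algebraMap D D').comp (algebraMap B D))
    (by
      rw [RingHom.comp_apply, ← IsScalarTower.algebraMap_apply A B D]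
      exact huD'.2)
    (KD.map (algebraMap D D')) (le_of_eq (by rw [← Ideal.map_map, hKBD]))
  let JD : Ideal Dq := (I.map (algebraMap A D1)).map mkq
  haveI : IsAdicComplete JD Dq :=
    (IsAdicComplete.map_algebraMap_iff (S := Dq) (I.map (algebraMap A D1)) Dq).2
      (isAdicComplete_of_finite (I.map (algebraMap A D1)) Dq)
  obtain ⟨Φ, hΦ⟩ := exists_compLoc_hom KD eD (mkq.comp (algebraMap D D1))
    (by
      rw [heD, map_mul]
      refine IsUnit.mul ((isUnit_algebraMap_compLoc KD _).map mkq) ?_
      rw [RingHom.comp_apply, ← IsScalarTower.algebraMap_apply A D D1]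
      exact hfu)
    JD (le_of_eq ((Ideal.map_map _ _).symm.trans (congrArg (Ideal.map mkq) hI1.symm)))
  have hKJ : ∀ c ∈ KD, mkq (algebraMap D D1 c) ∈ JD := fun c hc =>
    Ideal.mem_map_of_mem _ (hI1.symm ▸ Ideal.mem_map_of_mem _ hc)
  have hΦι : Φ.comp ιD = mkq :=
    compLoc_hom_ext KD hD0 JD
      (fun c => by rw [RingHom.comp_apply, hιD, hΦ]; rfl)
      (fun c hc => by rw [RingHom.comp_apply, hιD, hΦ]; exact hKJ c hc)
  have hsurj : Function.Surjective Φ := fun d => by
    obtain ⟨z, rfl⟩ := Ideal.Quotient.mk_surjective d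
    exact ⟨ιD z, RingHom.congr_fun hΦι z⟩
  haveI : IsDomain Dq := Ideal.Quotient.isDomain qe.asIdeal
  let q' : PrimeSpectrum D' := ⟨RingHom.ker Φ, RingHom.ker_isPrime Φ⟩
  have hJD : JD ≠ ⊥ := by
    rw [Ne, Ideal.map_eq_bot_iff_le_ker, Ideal.mk_ker]
    exact hqe.1
  have hq'I : ¬ KD.map (algebraMap D D') ≤ q'.asIdeal := by
    intro hle
    refine hJD (le_bot_iff.1 ?_)
    change (I.map (algebraMap A D1)).map mkq ≤ ⊥
    refine Ideal.map_le_iff_le_comap.2 (hI1.le.trans (Ideal.map_le_iff_le_comap.2 fun c hc => ?_))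
    have h0 : Φ (algebraMap D D' c) = 0 := hle (Ideal.mem_map_of_mem _ hc)
    rw [hΦ] at h0
    exact h0
  have hq' := rigClosed_of_dim (KD.map (algebraMap D D')) q'
    ((ringKrullDim_eq_of_ringEquiv (RingHom.quotientKerEquivOfSurjective hsurj)).trans hdim) hq'I
  have hsq : ιB.comp ψf = ψ2.comp ψA := by
    refine compLoc_hom_ext I f (KD.map (algebraMap D D')) (fun a => ?_) fun a ha => ?_
    · simp only [RingHom.comp_apply]
      rw [hψf, RingHom.comp_apply, hιB, hψA, RingHom.comp_apply, RingHom.comp_apply, hψ2,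
        RingHom.comp_apply, ← IsScalarTower.algebraMap_apply A B D, ← IsScalarTower.algebraMap_apply A C D]
    · rw [RingHom.comp_apply, hψf, RingHom.comp_apply, hιB, RingHom.comp_apply]
      exact Ideal.mem_map_of_mem _ (hKBD ▸ Ideal.mem_map_of_mem _ (hKB ▸ Ideal.mem_map_of_mem _ ha))
  letI : Algebra Af Dq := ((Φ.comp ψ2).comp ψA).toAlgebra
  haveI : IsScalarTower A Af Dq := IsScalarTower.of_algebraMap_eq fun a => by
    change _ = Φ (ψ2 (ψA (algebraMap A Af a)))
    rw [hψA, RingHom.comp_apply, hψ2, RingHom.comp_apply, hΦ, RingHom.comp_apply,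
      ← IsScalarTower.algebraMap_apply A C D, ← IsScalarTower.algebraMap_apply A D D1]
    rfl
  haveI : Module.Finite Af Dq := hfin Af (isUnit_algebraMap_compLoc I f)
  letI : Algebra Af Bf := ψf.toAlgebra
  letI : Algebra Af C' := ψA.toAlgebra
  letI : Algebra C' Dq := (Φ.comp ψ2).toAlgebra
  letI : Algebra Bf Dq := (Φ.comp ιB).toAlgebra
  haveI : IsScalarTower Af C' Dq := IsScalarTower.of_algebraMap_eq fun a => rfl
  haveI : IsScalarTower Af Bf Dq := IsScalarTower.of_algebraMap_eq fun a =>
    (congrArg Φ (RingHom.congr_fun hsq a)).symm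
  haveI : Module.Finite Bf Dq := Module.Finite.of_restrictScalars_finite Af Bf Dq
  letI : Algebra C' D' := ψ2.toAlgebra
  letI : Algebra Bf D' := ιB.toAlgebra
  letI : Algebra Af D' := (ψ2.comp ψA).toAlgebra
  haveI : IsScalarTower Af C' D' := IsScalarTower.of_algebraMap_eq fun a => rfl
  haveI : IsScalarTower Af Bf D' := IsScalarTower.of_algebraMap_eq fun a =>
    (RingHom.congr_fun hsq a).symm
  have hKBf : (KB.map (algebraMap B Bf)).map (algebraMap Bf D') = KD.map (algebraMap D D') := by
    rw [Ideal.map_map, show (algebraMap Bf D').comp (algebraMap B Bf) =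
      (algebraMap D D').comp (algebraMap B D) from RingHom.ext hιB, ← Ideal.map_map, hKBD]
  haveI : IsAdicComplete ((KB.map (algebraMap B Bf)).map (algebraMap Bf D')) D' := by
    rw [hKBf]; infer_instance
  let ΦB : D' →ₐ[Bf] Dq := { Φ with commutes' := fun b => rfl }
  have hr := rigClosed_comap_of_finite (A := Bf) (B := D')
    (KB.map (algebraMap B Bf)) q' (by rw [hKBf]; exact hq')
    (Module.Finite.equiv (Ideal.quotientKerAlgEquivOfSurjective (f := ΦB) hsurj).symm.toLinearEquiv)
  have h1 := hAB f ψf hψf (PrimeSpectrum.comap (algebraMap Bf D') q') hr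
  haveI := q'.isPrime
  have hIB : (I.map (algebraMap A Af)).map (algebraMap Af Bf) = KB.map (algebraMap B Bf) := by
    rw [Ideal.map_map, show (algebraMap Af Bf).comp (algebraMap A Af) =
      (algebraMap B Bf).comp (algebraMap A B) from RingHom.ext hψf, ← Ideal.map_map, ← hKB]
  haveI : IsAdicComplete ((I.map (algebraMap A Af)).map (algebraMap Af Bf)) Bf := by
    rw [hIB]; infer_instance
  haveI : IsAdicComplete ((I.map (algebraMap A Af)).map (algebraMap Af D')) D' := by
    rw [IsScalarTower.algebraMap_eq Af Bf D', ← Ideal.map_map, hIB]; infer_instance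
  have hD' : IsCTensor (I.map (algebraMap A Af)) (IsScalarTower.toAlgHom Af C' D')
      (IsScalarTower.toAlgHom Af Bf D') := by
    refine IsCTensor.compLoc I hD KB hKB KC hKC KD hKDA f fB eC eD (fun X _ θ hu => hu) _ _
      hψ2 hιB hψf hψA fun a => ?_
    change ψ2 (ψA (algebraMap A Af a)) = _
    rw [hψA, RingHom.comp_apply, hψ2, RingHom.comp_apply, ← IsScalarTower.algebraMap_apply A C D]
  let p : Ideal C' := RingHom.ker (Φ.comp ψ2)
  haveI : Module.Finite Af (C' ⧸ p) := by
    let g : (C' ⧸ p) →ₐ[Af] Dq :=
      { Ideal.Quotient.lift p (Φ.comp ψ2) (fun x hx => hx) with commutes' := fun a => rfl }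
    exact Module.Finite.of_injective g.toLinearMap
      (RingHom.lift_injective_of_ker_le_ideal p (f := Φ.comp ψ2) (fun x hx => hx) le_rfl)
  let r : Ideal Bf := q'.asIdeal.comap (algebraMap Bf D')
  haveI : r.IsPrime := Ideal.IsPrime.comap _
  have hflat : Module.Flat Af (Localization.AtPrime r) := by
    refine RingHom.flat_algebraMap_iff.1 ?_
    rw [IsScalarTower.algebraMap_eq Af Bf (Localization.AtPrime r)]
    exact h1
  let L'' := Localization.AtPrime q'.asIdeal
  let L := Localization.AtPrime qe.asIdeal
  haveI : IsNoetherianRing L'' := IsLocalization.isNoetherianRing q'.asIdeal.primeCompl L'' inferInstance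
  haveI : Module.Flat C' L'' := by
    refine FlatCrit.flat_of_quotFlat_pow (S := L'') p ?_ fun k => ?_
    · rw [IsLocalRing.jacobson_eq_maximalIdeal ⊥ bot_ne_top, IsScalarTower.algebraMap_eq C' D' L'',
        ← Ideal.map_map, ← Localization.AtPrime.map_eq_maximalIdeal]
      exact Ideal.map_mono (Ideal.map_le_iff_le_comap.2 fun x hx => hx)
    · haveI : Module.Finite Af (C' ⧸ p ^ k) := finite_quotient_pow C' p k
      exact quotFlat_localization_of_isCTensor (I.map (algebraMap A Af)) hD' (p ^ k) q'.asIdeal hflat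
  have hC'L : ((algebraMap D' L'').comp ψ2).Flat := by
    have h2 : (algebraMap C' L'').Flat := RingHom.flat_algebraMap_iff.2 inferInstance
    rw [IsScalarTower.algebraMap_eq C' D' L''] at h2
    exact h2
  have hιDq : qe.asIdeal = q'.asIdeal.comap ιD := by
    ext z
    change z ∈ qe.asIdeal ↔ Φ (ιD z) = 0
    rw [← RingHom.comp_apply, hΦι, Ideal.Quotient.eq_zero_iff_mem]
  let j : L →+* L'' := Localization.localRingHom qe.asIdeal q'.asIdeal ιD hιDq
  haveI : IsLocalHom j := Localization.isLocalHom_localRingHom qe.asIdeal q'.asIdeal ιD hιDq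
  have hιDflat : (ιD).Flat := by
    refine flat_compLoc_hom KD hD0 eD ιD hιD ?_
    have h0 := IsLocalization.Away.algebraMap_isUnit (S := Localization.Away eD) eD
    exact (IsUnit.mul_iff.1 ((congrArg IsUnit ((congrArg (algebraMap D (Localization.Away eD)) heD).trans
      (map_mul (algebraMap D (Localization.Away eD)) _ _))).mp h0)).1
  refine flat_of_flat_comp_of_isLocalHom _ j (flat_localRingHom ιD hιDflat q'.asIdeal qe.asIdeal hιDq) ?_
  have hsq2 : ιD.comp ψ' = ψ2.comp ιC := by
    refine compLoc_hom_ext KC h (KD.map (algebraMap D D')) (fun a => ?_) fun a ha => ?_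
    · simp only [RingHom.comp_apply]
      rw [hψ', hιD, hιC, hψ2]
      rfl
    · rw [RingHom.comp_apply, hψ', hιD]
      exact Ideal.mem_map_of_mem _ (hKD ▸ Ideal.mem_map_of_mem _ ha)
  have heq : j.comp ((algebraMap D1 L).comp ψ') = ((algebraMap D' L'').comp ψ2).comp ιC := by
    refine RingHom.ext fun x => ?_
    simp only [RingHom.comp_apply]
    exact (Localization.localRingHom_to_map qe.asIdeal q'.asIdeal ιD hιDq _).trans
      (congrArg _ (RingHom.congr_fun hsq2 x))
  change (j.comp ((algebraMap D1 L).comp ψ')).Flat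
  rw [heq]
  refine RingHom.Flat.comp (flat_compLoc_hom KC h eC ιC hιC ?_) hC'L
  exact (IsUnit.mul_iff.1 ((congrArg IsUnit (map_mul (algebraMap C (Localization.Away eC)) h
    (algebraMap A C f))).mp (IsLocalization.Away.algebraMap_isUnit eC))).1

/-- Base change of rig-flatness, with the completed localizations presented through `C[1/h] → D[1/h]`. -/
theorem rigFlat_baseChange'
    (hftD : Algebra.FiniteType A (D ⧸ (I.map (algebraMap A C)).map (algebraMap C D)))
    [IsAdicComplete ((I.map (algebraMap A C)).map (algebraMap C D)) D]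
    (hD : IsCTensor I (IsScalarTower.toAlgHom A C D) (IsScalarTower.toAlgHom A B D))
    (hAB : ∀ (f : A) (ψf : CompLoc I f →+* CompLoc (I.map (algebraMap A B)) (algebraMap A B f)),
      ψf.comp (algebraMap (Localization.Away f) (CompLoc I f)) =
        (algebraMap (Localization.Away (algebraMap A B f)) _).comp (Localization.awayMap (algebraMap A B) f) →
      ∀ q : PrimeSpectrum (CompLoc (I.map (algebraMap A B)) (algebraMap A B f)),
        (¬ ((I.map (algebraMap A B)).map (algebraMap B (Localization.Away (algebraMap A B f)))).map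
            (algebraMap (Localization.Away (algebraMap A B f)) _) ≤ q.asIdeal ∧
          ∀ y, q ≤ y → ¬ ((I.map (algebraMap A B)).map (algebraMap B (Localization.Away (algebraMap A B f)))).map
            (algebraMap (Localization.Away (algebraMap A B f)) _) ≤ y.asIdeal → y = q) →
        ((algebraMap _ (Localization.AtPrime q.asIdeal)).comp ψf).Flat)
    (h : C) (ψh : CompLoc (I.map (algebraMap A C)) h →+*
      CompLoc ((I.map (algebraMap A C)).map (algebraMap C D)) (algebraMap C D h))
    (hψ : ψh.comp (algebraMap (Localization.Away h) (CompLoc (I.map (algebraMap A C)) h)) =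
      (algebraMap (Localization.Away (algebraMap C D h)) _).comp (Localization.awayMap (algebraMap C D) h))
    (qe : PrimeSpectrum (CompLoc ((I.map (algebraMap A C)).map (algebraMap C D)) (algebraMap C D h)))
    (hqe : ¬ (((I.map (algebraMap A C)).map (algebraMap C D)).map
          (algebraMap D (Localization.Away (algebraMap C D h)))).map
          (algebraMap (Localization.Away (algebraMap C D h)) _) ≤ qe.asIdeal ∧
      ∀ y, qe ≤ y → ¬ (((I.map (algebraMap A C)).map (algebraMap C D)).map
          (algebraMap D (Localization.Away (algebraMap C D h)))).map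
          (algebraMap (Localization.Away (algebraMap C D h)) _) ≤ y.asIdeal → y = qe) :
    ((algebraMap _ (Localization.AtPrime qe.asIdeal)).comp ψh).Flat := by
  have hK : ∀ (R : Type u) [CommRing R] [IsNoetherianRing R] (K : Ideal R) (g : R),
      (K.map (algebraMap R (Localization.Away g))).map
        (algebraMap (Localization.Away g) (CompLoc K g)) = K.map (algebraMap R (CompLoc K g)) :=
    fun R _ _ K g => (Ideal.map_map _ _).trans (congrArg (fun φ => Ideal.map φ K)
      (IsScalarTower.algebraMap_eq R (Localization.Away g) _).symm)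
  refine rigFlat_baseChange I _ rfl _ rfl _ rfl hftD hD (fun f ψf hψf q hq => ?_) h ψh
    (comp_algebraMap_of_comp_awayMap _ _ h ψh hψ) qe ?_
  · refine hAB f ψf (comp_awayMap_of_comp_algebraMap I _ f ψf hψf) q ?_
    rw [← hK B] at hq
    exact hq
  · rw [← hK D]
    exact hqe

section Completion

/-- Base change of rig-flatness, with the completed localizations presented through `C[1/h] → D[1/h]` and `D` a completion. -/
theorem rigFlat_baseChange_completion
    {T : Type u} [CommRing T] [Algebra A T] [Algebra C T] [IsScalarTower A C T] (K : Ideal T)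
    [IsNoetherianRing (AdicCompletion K T)] [Algebra B (AdicCompletion K T)]
    [IsScalarTower A B (AdicCompletion K T)]
    (hftD : Algebra.FiniteType A ((AdicCompletion K T) ⧸ (I.map (algebraMap A C)).map (algebraMap C (AdicCompletion K T))))
    [IsAdicComplete ((I.map (algebraMap A C)).map (algebraMap C (AdicCompletion K T))) (AdicCompletion K T)]
    (hD : IsCTensor I (IsScalarTower.toAlgHom A C (AdicCompletion K T)) (IsScalarTower.toAlgHom A B (AdicCompletion K T)))
    (hAB : ∀ (f : A) (ψf : CompLoc I f →+* CompLoc (I.map (algebraMap A B)) (algebraMap A B f)),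
      ψf.comp (algebraMap (Localization.Away f) (CompLoc I f)) =
        (algebraMap (Localization.Away (algebraMap A B f)) _).comp (Localization.awayMap (algebraMap A B) f) →
      ∀ q : PrimeSpectrum (CompLoc (I.map (algebraMap A B)) (algebraMap A B f)),
        (¬ ((I.map (algebraMap A B)).map (algebraMap B (Localization.Away (algebraMap A B f)))).map
            (algebraMap (Localization.Away (algebraMap A B f)) _) ≤ q.asIdeal ∧
          ∀ y, q ≤ y → ¬ ((I.map (algebraMap A B)).map (algebraMap B (Localization.Away (algebraMap A B f)))).map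
            (algebraMap (Localization.Away (algebraMap A B f)) _) ≤ y.asIdeal → y = q) →
        ((algebraMap _ (Localization.AtPrime q.asIdeal)).comp ψf).Flat)
    (h : C) (ψh : CompLoc (I.map (algebraMap A C)) h →+*
      CompLoc ((I.map (algebraMap A C)).map (algebraMap C (AdicCompletion K T))) (algebraMap C (AdicCompletion K T) h))
    (hψ : ψh.comp (algebraMap (Localization.Away h) (CompLoc (I.map (algebraMap A C)) h)) =
      (algebraMap (Localization.Away (algebraMap C (AdicCompletion K T) h)) _).comp (Localization.awayMap (algebraMap C (AdicCompletion K T)) h))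
    (qe : PrimeSpectrum (CompLoc ((I.map (algebraMap A C)).map (algebraMap C (AdicCompletion K T))) (algebraMap C (AdicCompletion K T) h)))
    (hqe : ¬ (((I.map (algebraMap A C)).map (algebraMap C (AdicCompletion K T))).map
          (algebraMap (AdicCompletion K T) (Localization.Away (algebraMap C (AdicCompletion K T) h)))).map
          (algebraMap (Localization.Away (algebraMap C (AdicCompletion K T) h)) _) ≤ qe.asIdeal ∧
      ∀ y, qe ≤ y → ¬ (((I.map (algebraMap A C)).map (algebraMap C (AdicCompletion K T))).map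
          (algebraMap (AdicCompletion K T) (Localization.Away (algebraMap C (AdicCompletion K T) h)))).map
          (algebraMap (Localization.Away (algebraMap C (AdicCompletion K T) h)) _) ≤ y.asIdeal → y = qe) :
    ((algebraMap _ (Localization.AtPrime qe.asIdeal)).comp ψh).Flat :=
  rigFlat_baseChange' (A := A) (B := B) (C := C) (D := AdicCompletion K T) I hftD hD hAB h ψh hψ qe hqe

end Completion

end Groth.Agent.AdicRing
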