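import Mathlib.RingTheory.Henselian
import Mathlib.RingTheory.Ideal.KrullsHeightTheorem
import Mathlib.RingTheory.KrullDimension.LocalRing
import Mathlib.RingTheory.AdicCompletion.Basic
import Groth.Agent.AdicRing.Basic

/-!
# Rig-closed primes: domains in which every non-zero prime contains a given element
-/

universe u

namespace Groth.Agent.AdicRing

variable {D : Type u} [CommRing D] [IsDomain D] [IsNoetherianRing D]

/-- In a Noetherian domain in which every non-zero prime contains a fixed non-zero element, every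
non-zero prime is maximal. -/
theorem isMaximal_of_forall_mem {x : D} (hx : x ≠ 0)
    (h : ∀ P : Ideal D, P.IsPrime → P ≠ ⊥ → x ∈ P) (P : Ideal D) [hP : P.IsPrime] (hne : P ≠ ⊥) :
    P.IsMaximal := by
  obtain ⟨m, hm, hPm⟩ := Ideal.exists_le_maximal P hP.ne_top
  have := hm.isPrime
  by_contra hmax
  have hlt : P < m := hPm.lt_of_ne fun e => hmax (e ▸ hm)
  have key : ∀ Q Q' : Ideal D, Q.IsPrime → Q'.IsPrime → Q ≠ ⊥ → Q < Q' → 1 < Q'.height := by
    intro Q Q' hQ hQ' hQ0 hlt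
    have := Ideal.isPrime_bot (α := D)
    have h1 : (⊥ : Ideal D).height < Q.height :=
      Ideal.height_strict_mono_of_isPrime (bot_lt_iff_ne_bot.2 hQ0)
    have h2 : Q.height < Q'.height := Ideal.height_strict_mono_of_isPrime hlt
    exact (Order.one_le_iff_pos.2 (pos_of_gt h1)).trans_lt h2
  have hle1 : ∀ (a : D) (Q : Ideal D), Q ∈ (Ideal.span {a}).minimalPrimes → Q.height ≤ 1 :=
    fun a Q hQ => Ideal.height_le_one_of_isPrincipal_of_mem_minimalPrimes _ Q hQ
  obtain ⟨y, hym, hy⟩ : ∃ y ∈ m, ∀ Q ∈ (Ideal.span {x}).minimalPrimes, y ∉ Q := by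
    by_contra hc
    push Not at hc
    have hsub : (m : Set D) ⊆ ⋃ Q ∈ (Ideal.span {x}).minimalPrimes, (Q : Set D) := fun y hy => by
      obtain ⟨Q, hQ, hyQ⟩ := hc y hy
      exact Set.mem_biUnion hQ hyQ
    obtain ⟨Q, hQ, hmQ⟩ := (Ideal.subset_union_prime_finite
      (Ideal.finite_minimalPrimes_of_isNoetherianRing D _) (f := fun Q => Q) ⊥ ⊥
      (fun Q hQ _ _ => hQ.isPrime)).1 hsub
    obtain rfl : m = Q := hm.eq_of_le hQ.isPrime.ne_top hmQ
    exact (hle1 x m hQ).not_gt (key P m hP this hne hlt)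
  have hy0 : y ≠ 0 := fun e => by
    obtain ⟨Q, hQ, -⟩ := Ideal.exists_minimalPrimes_le
      ((Ideal.span_singleton_le_iff_mem P).2 (h P hP hne))
    exact hy Q hQ (e ▸ zero_mem Q)
  obtain ⟨Q', hQ', -⟩ := Ideal.exists_minimalPrimes_le ((Ideal.span_singleton_le_iff_mem m).2 hym)
  have hyQ' : y ∈ Q' := hQ'.le (Ideal.mem_span_singleton_self y)
  have hQ'0 : Q' ≠ ⊥ := fun e => hy0 (by simpa [e] using hyQ')
  have := hQ'.isPrime
  obtain ⟨Q, hQ, hQQ'⟩ := Ideal.exists_minimalPrimes_le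
    ((Ideal.span_singleton_le_iff_mem Q').2 (h Q' this hQ'0))
  have hQ0 : Q ≠ ⊥ := fun e => hx (by simpa [e] using hQ.le (Ideal.mem_span_singleton_self x))
  rcases hQQ'.eq_or_lt with rfl | hlt'
  · exact hy Q hQ hyQ'
  · exact (hle1 y Q' hQ').not_gt (key Q Q' hQ.isPrime this hQ0 hlt')

/-- A domain, henselian along an ideal `J` modulo which all primes are maximal, has only one
maximal ideal. -/
theorem eq_of_isMaximal (J : Ideal D) [HenselianRing D J]
    (h : ∀ P : Ideal D, P.IsPrime → J ≤ P → P.IsMaximal)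
    (m₁ m₂ : Ideal D) (h₁ : m₁.IsMaximal) (h₂ : m₂.IsMaximal) : m₁ = m₂ := by
  classical
  by_contra hne
  have hJ : ∀ m : Ideal D, m.IsMaximal → J ≤ m := fun m hm =>
    le_trans HenselianRing.jac (sInf_le ⟨bot_le, hm⟩)
  let S := (Ideal.finite_minimalPrimes_of_isNoetherianRing D J).toFinset.erase m₁
  have hS : ∀ Q ∈ S, Q.IsMaximal ∧ Q ≠ m₁ := fun Q hQ => by
    obtain ⟨h3, h4⟩ := Finset.mem_erase.1 hQ
    rw [Set.Finite.mem_toFinset] at h4
    exact ⟨h Q h4.isPrime h4.le, h3⟩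
  have hsup : m₁ ⊔ S.inf id = ⊤ :=
    Ideal.sup_iInf_eq_top (s := S) (I := m₁) (J := id)
      (fun Q hQ => h₁.coprime_of_ne (hS Q hQ).1 (hS Q hQ).2.symm) |>.symm.trans
        (by rw [Finset.inf_eq_iInf]) |>.symm
  obtain ⟨u, hu, v, hv, huv⟩ := Submodule.mem_sup.1 (hsup ▸ Submodule.mem_top (x := (1 : D)))
  have hrad : u * v ∈ J.radical := by
    rw [← Ideal.sInf_minimalPrimes, Submodule.mem_sInf]
    intro Q hQ
    by_cases hQm : Q = m₁
    · exact hQm ▸ Ideal.mul_mem_right _ _ hu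
    · exact Ideal.mul_mem_left _ _ (Finset.inf_le (f := id)
        (Finset.mem_erase.2 ⟨hQm, (Set.Finite.mem_toFinset _).2 hQ⟩ : Q ∈ S) hv)
  obtain ⟨N, hN⟩ := hrad
  have hcop : IsCoprime (u ^ (N + 1)) (v ^ (N + 1)) :=
    IsCoprime.pow ⟨1, 1, by simpa using huv⟩
  obtain ⟨a, b, hab⟩ := hcop
  set e := b * v ^ (N + 1) with he
  have he' : 1 - e = a * u ^ (N + 1) := by rw [← hab]; ring
  have hee : e * (1 - e) ∈ J := by
    rw [he', he, show b * v ^ (N + 1) * (a * u ^ (N + 1)) =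
      a * b * (u * v) * (u * v) ^ N by ring]
    exact Ideal.mul_mem_left _ _ hN
  have hunit : IsUnit (Ideal.Quotient.mk J ((Polynomial.derivative (Polynomial.X ^ 2 - Polynomial.X : Polynomial D)).eval e)) := by
    refine IsUnit.of_mul_eq_one (Ideal.Quotient.mk J (2 * e - 1)) ?_
    rw [← map_mul, ← map_one (Ideal.Quotient.mk J), Ideal.Quotient.eq]
    simp only [Polynomial.derivative_sub, Polynomial.derivative_X_pow, Polynomial.derivative_X,
      Polynomial.eval_sub, Polynomial.eval_mul, Polynomial.eval_C, Polynomial.eval_pow,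
      Polynomial.eval_X, Polynomial.eval_one]
    rw [show (((2 : ℕ) : D) * e ^ (2 - 1) - 1) * (2 * e - 1) - 1 = (-4) * (e * (1 - e)) by
      push_cast; ring]
    exact Ideal.mul_mem_left _ _ hee
  obtain ⟨r, hr, hre⟩ := HenselianRing.is_henselian (R := D) (I := J) (Polynomial.X ^ 2 - Polynomial.X)
    (Polynomial.monic_X_pow_sub (by simp)) e (by
      have := J.neg_mem hee
      rw [show -(e * (1 - e)) = e ^ 2 - e by ring] at this
      simpa using this) hunit
  have hr01 : r = 0 ∨ r = 1 := by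
    have : r * (r - 1) = 0 := by
      have := hr
      simp only [Polynomial.IsRoot, Polynomial.eval_sub, Polynomial.eval_pow, Polynomial.eval_X] at this
      rw [← this]; ring
    rcases mul_eq_zero.1 this with h0 | h0
    · exact Or.inl h0
    · exact Or.inr (sub_eq_zero.1 h0)
  rcases hr01 with rfl | rfl
  · have : e ∈ m₁ := hJ m₁ h₁ (by simpa using J.neg_mem hre)
    refine h₁.ne_top ((Ideal.eq_top_iff_one _).2 ?_)
    rw [show (1 : D) = e + a * u ^ (N + 1) by rw [← he']; ring]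
    exact add_mem this (Ideal.mul_mem_left _ _ (Ideal.pow_mem_of_mem _ hu _ N.succ_pos))
  · have h2 : 1 - e ∈ m₂ := hJ m₂ h₂ hre
    obtain ⟨Q, hQ, hQm⟩ := Ideal.exists_minimalPrimes_le (hJ m₂ h₂) (J := m₂)
    obtain rfl : Q = m₂ := (h Q hQ.isPrime hQ.le).eq_of_le h₂.ne_top hQm
    have hv2 : v ∈ Q := Finset.inf_le (f := id)
      (Finset.mem_erase.2 ⟨Ne.symm hne, (Set.Finite.mem_toFinset _).2 hQ⟩ : Q ∈ S) hv
    refine h₂.ne_top ((Ideal.eq_top_iff_one _).2 ?_)
    rw [show (1 : D) = e + (1 - e) by ring]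
    exact add_mem (Ideal.mul_mem_left _ _ (Ideal.pow_mem_of_mem _ hv2 _ N.succ_pos)) h2

/-- A domain with a non-zero prime has positive dimension, hence dimension one if all non-zero
primes are maximal. -/
theorem ringKrullDim_eq_one (h : ∀ P : Ideal D, P ≠ ⊥ → P.IsPrime → P.IsMaximal)
    (hm : ∃ P : Ideal D, P.IsPrime ∧ P ≠ ⊥) : ringKrullDim D = 1 := by
  refine le_antisymm (Ring.krullDimLE_iff.1 (Ring.krullDimLE_one_iff_of_noZeroDivisors.2 h)) ?_
  obtain ⟨P, hP, hne⟩ := hm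
  have : (0 : WithBot ℕ∞) < ringKrullDim D := Order.krullDim_pos_iff.2
    ⟨⟨⊥, Ideal.isPrime_bot⟩, ⟨P, hP⟩, (bot_lt_iff_ne_bot.2 hne : (⊥ : Ideal D) < P)⟩
  exact Order.succ_le_of_lt this

theorem isMaximal_of_ringKrullDim_eq_one (h : ringKrullDim D = 1) (P : Ideal D) (hne : P ≠ ⊥)
    (hP : P.IsPrime) : P.IsMaximal :=
  Ring.krullDimLE_one_iff_of_noZeroDivisors.1 (Ring.krullDimLE_iff.2 (by simp [h])) P hne hP

end Groth.Agent.AdicRing
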