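import Groth.Agent.AdicRing.RigFlat
import Groth.Agent.AdicRing.RigUnram

/-!
# Completed localizations are unramified modulo the ideal of definition
-/

universe u

namespace Groth.Agent.AdicRing

theorem formallyUnramified_compLoc_quotient {A : Type u} [CommRing A] [IsNoetherianRing A]
    (I : Ideal A) (f : A) :
    Algebra.FormallyUnramified A (CompLoc I f ⧸ I.map (algebraMap A (CompLoc I f))) := by
  haveI : Algebra.FormallyUnramified A (Localization.Away f) :=
    Algebra.FormallyUnramified.of_isLocalization (.powers f)
  refine Algebra.FormallyUnramified.of_surjective (R := A) (A := Localization.Away f)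
    ((Ideal.Quotient.mkₐ A _).comp (IsScalarTower.toAlgHom A (Localization.Away f) (CompLoc I f))) ?_
  intro y
  obtain ⟨c, rfl⟩ := Ideal.Quotient.mk_surjective y
  obtain ⟨s, hs⟩ := Ideal.Quotient.mk_surjective
    (AdicCompletion.evalₐ (I.map (algebraMap A (Localization.Away f))) 1 c)
  refine ⟨s, ((Ideal.Quotient.eq).2 ?_).symm⟩
  have h1 := (FSchLib.ker_evalₐ (I.map (algebraMap A (Localization.Away f)))
    (Ideal.FG.map (IsNoetherian.noetherian I) _) 1).trans (pow_one _)
  rw [Ideal.map_map, ← IsScalarTower.algebraMap_eq] at h1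
  rw [← h1, RingHom.mem_ker]
  change AdicCompletion.evalₐ _ 1 (c - algebraMap (Localization.Away f) (CompLoc I f) s) = 0
  rw [map_sub, FSchLib.evalₐ_algebraMap, hs, sub_self]

end Groth.Agent.AdicRing
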