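import Groth.Agent.AdicRing.CompLocMap
import Groth.Agent.AdicRing.RigBelow

/-!
# Auxiliary facts for rig-flatness
-/

universe u

namespace Groth.Agent.AdicRing

variable {A : Type u} [CommRing A]

/-- An algebra of finite type over `C` killed by `a` is of finite type over `A` if `C ⧸ a` is. -/
theorem finiteType_of_quotient {C X : Type u} [CommRing C] [CommRing X] [Algebra A C] [Algebra A X]
    [Algebra C X] [IsScalarTower A C X] (a : Ideal C) (ha : a.map (algebraMap C X) = ⊥)
    (hA : Algebra.FiniteType A (C ⧸ a)) (hX : Algebra.FiniteType C X) : Algebra.FiniteType A X := by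
  have hle : a ≤ RingHom.ker (algebraMap C X) := by
    rw [← Ideal.map_eq_bot_iff_le_ker]; exact ha
  letI : Algebra (C ⧸ a) X := (Ideal.Quotient.lift a (algebraMap C X) hle).toAlgebra
  haveI : IsScalarTower C (C ⧸ a) X := IsScalarTower.of_algebraMap_eq fun c => rfl
  haveI : IsScalarTower A (C ⧸ a) X := IsScalarTower.of_algebraMap_eq fun x => by
    rw [IsScalarTower.algebraMap_apply A C X]; rfl
  haveI : Algebra.FiniteType C X := hX
  exact Algebra.FiniteType.trans hA (Algebra.FiniteType.of_restrictScalars_finiteType C (C ⧸ a) X)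

/-- Compatibility with `A[1/f] → B[1/g]` follows from compatibility with `A → B`. -/
theorem comp_awayMap_of_comp_algebraMap [IsNoetherianRing A] (I : Ideal A) {B : Type u} [CommRing B]
    [IsNoetherianRing B] [Algebra A B] (K : Ideal B) (f : A)
    (ψ : CompLoc I f →+* CompLoc K (algebraMap A B f))
    (hψ : ∀ a, ψ (algebraMap A (CompLoc I f) a) =
      algebraMap B (CompLoc K (algebraMap A B f)) (algebraMap A B a)) :
    ψ.comp (algebraMap (Localization.Away f) (CompLoc I f)) =
      (algebraMap (Localization.Away (algebraMap A B f)) (CompLoc K (algebraMap A B f))).comp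
        (Localization.awayMap (algebraMap A B) f) := by
  refine IsLocalization.ringHom_ext (.powers f) (RingHom.ext fun a => ?_)
  simp only [RingHom.comp_apply]
  rw [← IsScalarTower.algebraMap_apply A (Localization.Away f) (CompLoc I f), hψ,
    IsScalarTower.algebraMap_apply B (Localization.Away (algebraMap A B f))
      (CompLoc K (algebraMap A B f))]
  congr 1
  exact (IsLocalization.map_eq _ a).symm

/-- A prime of a complete Noetherian ring with one-dimensional quotient not containing `I` is
rig-closed. -/
theorem rigClosed_of_dim {C : Type u} [CommRing C] [IsNoetherianRing C] (I : Ideal C)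
    [IsAdicComplete I C] (q : PrimeSpectrum C) (hd : ringKrullDim (C ⧸ q.asIdeal) = 1)
    (hI : ¬ I ≤ q.asIdeal) :
    ¬ I ≤ q.asIdeal ∧ ∀ y : PrimeSpectrum C, q ≤ y → ¬ I ≤ y.asIdeal → y = q :=
  ((Groth.Agent.S8804.result C I q).out 1 0).1 (And.intro hd hI)

end Groth.Agent.AdicRing

namespace Groth.Agent.AdicRing

variable {A : Type u} [CommRing A] [IsNoetherianRing A] (K : Ideal A) (g : A)

/-- A map of completed localizations over a flat map is flat. -/
theorem flat_compLoc_hom_of_flat {A₂ : Type u} [CommRing A₂] [IsNoetherianRing A₂] [Algebra A A₂]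
    [Module.Flat A A₂] (K₂ : Ideal A₂) (hK : K.map (algebraMap A A₂) = K₂) (h : A₂)
    (ι : CompLoc K g →+* CompLoc K₂ h)
    (hι : ∀ a, ι (algebraMap A (CompLoc K g) a) = algebraMap A₂ (CompLoc K₂ h) (algebraMap A A₂ a))
    (hg : IsUnit (algebraMap A₂ (Localization.Away h) (algebraMap A A₂ g))) : ι.Flat := by
  let S := Localization.Away g
  let T := Localization.Away h
  haveI : IsNoetherianRing S := IsLocalization.isNoetherianRing (.powers g) _ ‹_›
  haveI : IsNoetherianRing T := IsLocalization.isNoetherianRing (.powers h) _ ‹_›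
  let j : S →+* T := IsLocalization.Away.lift (g := (algebraMap A₂ T).comp (algebraMap A A₂)) g hg
  have hj : ∀ a, j (algebraMap A S a) = algebraMap A₂ T (algebraMap A A₂ a) :=
    IsLocalization.Away.lift_eq g hg
  have hjflat : j.Flat := by
    letI : Algebra S T := j.toAlgebra
    haveI : IsScalarTower A S T := IsScalarTower.of_algebraMap_eq fun a => by
      rw [IsScalarTower.algebraMap_apply A A₂ T]; exact (hj a).symm
    haveI : Module.Flat A₂ T := IsLocalization.flat T (.powers h)
    haveI : Module.Flat A T := Module.Flat.trans A A₂ T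
    exact (Module.flat_iff_of_isLocalization S (.powers g) T).2 inferInstance
  have hK' : (K.map (algebraMap A S)).map j = K₂.map (algebraMap A₂ T) :=
    ((Ideal.map_map _ _).trans (congrArg (fun φ => Ideal.map φ K)
      (RingHom.ext hj : j.comp (algebraMap A S) = (algebraMap A₂ T).comp (algebraMap A A₂)))).trans
      ((Ideal.map_map _ _).symm.trans (congrArg (Ideal.map (algebraMap A₂ T)) hK))
  haveI := isAdicComplete_compLoc K₂ h
  have : ι = FSch.complMap (K.map (algebraMap A S)) (K₂.map (algebraMap A₂ T)) j hK'.le := by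
    refine compLoc_hom_ext K g (K₂.map (algebraMap A₂ (CompLoc K₂ h))) (fun a => ?_) fun a ha => ?_
    · rw [hι, IsScalarTower.algebraMap_apply A S (CompLoc K g), FSchLib.complMap_algebraMap, hj]
      exact IsScalarTower.algebraMap_apply A₂ T (CompLoc K₂ h) _
    · rw [hι]
      exact Ideal.mem_map_of_mem _ (hK ▸ Ideal.mem_map_of_mem _ ha)
  rw [this]
  exact FSchLib.flat_complMap _ _ j hjflat hK'

/-- Ideals of a completed localization containing `K` are determined by their contractions. -/
theorem le_of_comap_le_compLoc (n P : Ideal (CompLoc K g))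
    (hn : K.map (algebraMap A (CompLoc K g)) ≤ n) (hP : K.map (algebraMap A (CompLoc K g)) ≤ P)
    (h : n.comap (algebraMap A (CompLoc K g)) ≤ P.comap (algebraMap A (CompLoc K g))) : n ≤ P := by
  intro z hz
  let S := Localization.Away g
  obtain ⟨s, hs⟩ := Ideal.Quotient.mk_surjective
    (AdicCompletion.evalₐ (K.map (algebraMap A S)) 1 z)
  have hker : RingHom.ker (AdicCompletion.evalₐ (K.map (algebraMap A S)) 1).toRingHom =
      K.map (algebraMap A (CompLoc K g)) :=
    ((FSchLib.ker_evalₐ (K.map (algebraMap A S)) (Ideal.FG.map (IsNoetherian.noetherian K) _) 1).trans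
      (pow_one _)).trans ((Ideal.map_map _ _).trans
        (congrArg (fun φ => Ideal.map φ K) (IsScalarTower.algebraMap_eq A S (CompLoc K g)).symm))
  have hzs : z - algebraMap S (CompLoc K g) s ∈ K.map (algebraMap A (CompLoc K g)) := by
    rw [← hker, RingHom.mem_ker]
    change AdicCompletion.evalₐ _ 1 (z - algebraMap S (CompLoc K g) s) = 0
    rw [map_sub, FSchLib.evalₐ_algebraMap, hs, sub_self]
  obtain ⟨k, b, hb⟩ := IsLocalization.Away.surj (S := S) g s
  have hb' : algebraMap S (CompLoc K g) s * algebraMap A (CompLoc K g) g ^ k =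
      algebraMap A (CompLoc K g) b := by
    rw [IsScalarTower.algebraMap_apply A S (CompLoc K g) g,
      IsScalarTower.algebraMap_apply A S (CompLoc K g) b, ← hb, map_mul, map_pow]
  have h1 : algebraMap S (CompLoc K g) s ∈ n := by
    have h0 := sub_mem hz (hn hzs)
    rwa [sub_sub_cancel] at h0
  have h2 : algebraMap A (CompLoc K g) b ∈ P := h (by
    rw [Ideal.mem_comap, ← hb']
    exact n.mul_mem_right _ h1)
  rw [← hb', Ideal.mul_unit_mem_iff_mem _ ((isUnit_algebraMap_compLoc K g).pow k)] at h2
  have h3 := add_mem (hP hzs) h2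
  rwa [sub_add_cancel] at h3

end Groth.Agent.AdicRing
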