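import Groth.Agent.S8804
import Mathlib.RingTheory.Jacobson.Ring
import Mathlib.RingTheory.Ideal.GoingUp
import Mathlib.RingTheory.IntegralClosure.IsIntegralClosure.Basic

/-!
# Rig-closed primes along morphisms topologically of finite type
-/

universe u

namespace Groth.Agent.AdicRing

variable {A : Type u} [CommRing A] {B : Type u} [CommRing B] [Algebra A B]

/-- A residue field of `B` at a maximal ideal containing `IB` is finite over `A` as soon as it
lies over a quotient of `A` which is a Jacobson ring. -/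
theorem finite_residue_of_jacobson (J m : Ideal B) [m.IsMaximal] (hJm : J ≤ m)
    (hft : Algebra.FiniteType A (B ⧸ J)) (a : Ideal A) [IsJacobsonRing (A ⧸ a)]
    (ha : a ≤ m.comap (algebraMap A B)) : Module.Finite A (B ⧸ m) := by
  let : Algebra (A ⧸ a) (B ⧸ m) := (Ideal.quotientMap m (algebraMap A B) ha).toAlgebra
  have : IsScalarTower A (A ⧸ a) (B ⧸ m) := IsScalarTower.of_algebraMap_eq fun r => rfl
  have h1 : Algebra.FiniteType A (B ⧸ m) :=
    hft.of_surjective (Ideal.Quotient.factorₐ A hJm) (Ideal.Quotient.factor_surjective hJm)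
  have : Algebra.FiniteType (A ⧸ a) (B ⧸ m) :=
    Algebra.FiniteType.of_restrictScalars_finiteType A (A ⧸ a) _
  letI := Ideal.Quotient.field m
  have := finite_of_finite_type_of_isJacobsonRing (A ⧸ a) (B ⧸ m)
  exact Module.Finite.trans (A ⧸ a) (B ⧸ m)

variable [IsNoetherianRing A] (I : Ideal A) [IsAdicComplete I A]
  [IsNoetherianRing B] [IsAdicComplete (I.map (algebraMap A B)) B]
  (q : PrimeSpectrum B)
  (hq : ¬ (I.map (algebraMap A B)) ≤ q.asIdeal ∧
    ∀ y : PrimeSpectrum B, q ≤ y → ¬ (I.map (algebraMap A B)) ≤ y.asIdeal → y = q)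

include hq

theorem finite_quotient_of_forall_finite (hft : Algebra.FiniteType A (B ⧸ (I.map (algebraMap A B))))
    (h : ∀ m : Ideal B, m.IsMaximal → q.asIdeal ≤ m → Module.Finite A (B ⧸ m)) :
    Module.Finite A (B ⧸ q.asIdeal) := by
  obtain ⟨-, hmax, -⟩ := ((Groth.Agent.S8804.result B (I.map (algebraMap A B)) q).out 0 2).1 hq
  let D := B ⧸ q.asIdeal
  haveI : IsHausdorff I D := by
    have h1 := Groth.Agent.AdicRing.isAdicComplete_of_finite (I.map (algebraMap A B)) D
    exact ((IsAdicComplete.map_algebraMap_iff I D).1 h1).toIsHausdorff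
  let K : Ideal B := q.asIdeal ⊔ I.map (algebraMap A B)
  obtain ⟨m, hm⟩ := Ideal.exists_maximal D
  have hmrad := hmax m hm
  let mB : Ideal B := m.comap (Ideal.Quotient.mk q.asIdeal)
  haveI : mB.IsMaximal := Ideal.comap_isMaximal_of_surjective (H := hm) _ Ideal.Quotient.mk_surjective
  have hqm : q.asIdeal ≤ mB := fun a ha => by
    change Ideal.Quotient.mk q.asIdeal a ∈ m
    rw [Ideal.Quotient.eq_zero_iff_mem.2 ha]
    exact zero_mem m
  have := h mB inferInstance hqm
  have hE : Module.Finite A (B ⧸ K) := by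
    have : Algebra.FiniteType A (B ⧸ K) := hft.of_surjective
      (Ideal.Quotient.factorₐ A (le_sup_right : I.map (algebraMap A B) ≤ K))
      (Ideal.Quotient.factor_surjective le_sup_right)
    have : Algebra.IsIntegral A (B ⧸ K) := ⟨fun x => by
      obtain ⟨b, rfl⟩ := Ideal.Quotient.mk_surjective x
      obtain ⟨f, hf, hfb⟩ := Algebra.IsIntegral.isIntegral (R := A) (Ideal.Quotient.mk mB b)
      rw [← Polynomial.aeval_def] at hfb
      have hmem : Polynomial.aeval b f ∈ mB := by
        rw [← Ideal.Quotient.eq_zero_iff_mem]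
        exact (Polynomial.aeval_algHom_apply (Ideal.Quotient.mkₐ A mB) b f).symm.trans hfb
      have hmem' : Ideal.Quotient.mk q.asIdeal (Polynomial.aeval b f) ∈
          ((I.map (algebraMap A B)).map (Ideal.Quotient.mk q.asIdeal)).radical := hmrad ▸ hmem
      obtain ⟨N, hN⟩ := hmem'
      refine ⟨f ^ N, hf.pow N, ?_⟩
      rw [← Polynomial.aeval_def, map_pow]
      refine (congrArg (· ^ N) (Polynomial.aeval_algHom_apply (Ideal.Quotient.mkₐ A K) b f)).trans ?_
      change (Ideal.Quotient.mk K (Polynomial.aeval b f)) ^ N = 0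
      rw [← map_pow, Ideal.Quotient.eq_zero_iff_mem]
      rw [← map_pow, ← Ideal.mem_comap,
        Ideal.comap_map_of_surjective _ Ideal.Quotient.mk_surjective, ← RingHom.ker_eq_comap_bot,
        Ideal.mk_ker, sup_comm] at hN
      exact hN⟩
    exact Algebra.IsIntegral.finite
  refine finite_of_finite_quotient I D ?_
  let g : B →ₗ[A] D ⧸ (I • ⊤ : Submodule A D) :=
    (I • ⊤ : Submodule A D).mkQ.comp (Ideal.Quotient.mkₐ A q.asIdeal).toLinearMap
  have hg : Function.Surjective g :=
    (Submodule.mkQ_surjective _).comp Ideal.Quotient.mk_surjective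
  have hker : K.restrictScalars A ≤ LinearMap.ker g := by
    rw [Submodule.restrictScalars_sup, sup_le_iff]
    constructor
    · intro a ha
      change (I • ⊤ : Submodule A D).mkQ (Ideal.Quotient.mk q.asIdeal a) = 0
      rw [Ideal.Quotient.eq_zero_iff_mem.2 ha, map_zero]
    · rw [← Ideal.smul_top_eq_map, Submodule.smul_le]
      intro r hr a _
      rw [LinearMap.mem_ker, map_smul]
      exact (Submodule.Quotient.mk_eq_zero _).2 (Submodule.smul_mem_smul hr trivial)
  exact Module.Finite.of_surjective (((K.restrictScalars A).liftQ g hker).comp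
    (Submodule.Quotient.restrictScalarsEquiv A K).symm.toLinearMap)
    (fun z => by
      obtain ⟨b, rfl⟩ := hg z
      exact ⟨Ideal.Quotient.mk K b, rfl⟩)

theorem rigClosed_comap_of_finite (hfin : Module.Finite A (B ⧸ q.asIdeal)) :
    ¬ I ≤ (PrimeSpectrum.comap (algebraMap A B) q).asIdeal ∧ ∀ y : PrimeSpectrum A,
      PrimeSpectrum.comap (algebraMap A B) q ≤ y → ¬ I ≤ y.asIdeal →
        y = PrimeSpectrum.comap (algebraMap A B) q := by
  obtain ⟨hdim, hmax, -⟩ := ((Groth.Agent.S8804.result B (I.map (algebraMap A B)) q).out 0 2).1 hq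
  refine ⟨fun h => hq.1 (Ideal.map_le_iff_le_comap.2 h), fun y hpy hy => ?_⟩
  by_contra hne
  have := y.isPrime
  obtain ⟨P, -, hP, hPy⟩ := Ideal.exists_ideal_over_prime_of_isIntegral (R := A)
    (S := B ⧸ q.asIdeal) y.asIdeal ⊥ (fun a ha => hpy (by
      change algebraMap A B a ∈ q.asIdeal
      exact Ideal.Quotient.eq_zero_iff_mem.1 ha))
  have hP0 : P ≠ ⊥ := by
    rintro rfl
    refine hne (PrimeSpectrum.ext ?_)
    rw [← hPy]
    ext a
    exact Ideal.Quotient.eq_zero_iff_mem
  have hm := isMaximal_of_ringKrullDim_eq_one hdim P hP0 hP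
  refine hy fun a ha => ?_
  rw [← hPy]
  change Ideal.Quotient.mk q.asIdeal (algebraMap A B a) ∈ P
  rw [hmax P hm]
  exact Ideal.le_radical (Ideal.mem_map_of_mem _ (Ideal.mem_map_of_mem _ ha))

theorem forall_finite_of_rigClosed_comap
    (hft : Algebra.FiniteType A (B ⧸ (I.map (algebraMap A B))))
    (hp : ¬ I ≤ (PrimeSpectrum.comap (algebraMap A B) q).asIdeal ∧ ∀ y : PrimeSpectrum A,
      PrimeSpectrum.comap (algebraMap A B) q ≤ y → ¬ I ≤ y.asIdeal →
        y = PrimeSpectrum.comap (algebraMap A B) q) :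
    ∀ m : Ideal B, m.IsMaximal → q.asIdeal ≤ m → Module.Finite A (B ⧸ m) := by
  intro m hm hqm
  set p := PrimeSpectrum.comap (algebraMap A B) q
  obtain ⟨hdim, -⟩ := ((Groth.Agent.S8804.result A I p).out 0 1).1 hp
  have hIm : I.map (algebraMap A B) ≤ m :=
    (IsAdicComplete.le_jacobson_bot _).trans (sInf_le ⟨bot_le, hm⟩)
  let p' : Ideal A := m.comap (algebraMap A B)
  have hle : RingHom.ker (Ideal.Quotient.mk p.asIdeal) ≤ p' := by
    rw [Ideal.mk_ker]
    exact fun a ha => hqm ha
  have := hm.isPrime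
  have hP := Ideal.map_isPrime_of_surjective (I := p') Ideal.Quotient.mk_surjective hle
  have hP0 : p'.map (Ideal.Quotient.mk p.asIdeal) ≠ ⊥ := fun e => by
    rw [Ideal.map_eq_bot_iff_le_ker, Ideal.mk_ker] at e
    exact hp.1 ((Ideal.map_le_iff_le_comap.1 hIm).trans e)
  have hM := isMaximal_of_ringKrullDim_eq_one hdim _ hP0 hP
  have hp' : p'.IsMaximal := by
    have := Ideal.comap_isMaximal_of_surjective (Ideal.Quotient.mk p.asIdeal)
      Ideal.Quotient.mk_surjective (H := hM)
    rwa [Ideal.comap_map_of_surjective _ Ideal.Quotient.mk_surjective, ← RingHom.ker_eq_comap_bot,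
      sup_eq_left.2 hle] at this
  letI := Ideal.Quotient.field p'
  exact finite_residue_of_jacobson _ m hIm hft p' le_rfl

end Groth.Agent.AdicRing

namespace Groth.Agent.AdicRing

variable {A : Type u} [CommRing A] [IsNoetherianRing A] (I : Ideal A) [IsAdicComplete I A]

/-- A prime containing a rig-closed prime and containing `I` is maximal. -/
theorem isMaximal_of_rigClosed_le (p : PrimeSpectrum A)
    (hp : ¬ I ≤ p.asIdeal ∧ ∀ y : PrimeSpectrum A, p ≤ y → ¬ I ≤ y.asIdeal → y = p)
    (P : Ideal A) [P.IsPrime] (hpP : p.asIdeal ≤ P) (hIP : I ≤ P) : P.IsMaximal := by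
  obtain ⟨hdim, -⟩ := ((Groth.Agent.S8804.result A I p).out 0 1).1 hp
  have hker : RingHom.ker (Ideal.Quotient.mk p.asIdeal) ≤ P := by rwa [Ideal.mk_ker]
  have hP := Ideal.map_isPrime_of_surjective (I := P) Ideal.Quotient.mk_surjective hker
  have hP0 : P.map (Ideal.Quotient.mk p.asIdeal) ≠ ⊥ := fun e => by
    rw [Ideal.map_eq_bot_iff_le_ker, Ideal.mk_ker] at e
    exact hp.1 (hIP.trans e)
  have hM := isMaximal_of_ringKrullDim_eq_one hdim _ hP0 hP
  have := Ideal.comap_isMaximal_of_surjective (Ideal.Quotient.mk p.asIdeal)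
    Ideal.Quotient.mk_surjective (H := hM)
  rwa [Ideal.comap_map_of_surjective _ Ideal.Quotient.mk_surjective, ← RingHom.ker_eq_comap_bot,
    sup_eq_left.2 hker] at this

end Groth.Agent.AdicRing
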