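import Groth.Agent.AdicRing.Basic
import Mathlib.Algebra.Module.Projective

/-!
# Inverse limits of adic systems of modules

A system `f n : M (n+1) → M n` of surjections with `ker (f n) = I ^ (n+1) • ⊤`, with limit `L`.
-/

namespace Groth.Agent.AdicRing

open Submodule

universe u v w x

variable {A : Type u} [CommRing A] {I : Ideal A}

/-- In a tower of surjections every element extends to a compatible family. -/
theorem exists_compatible : ∀ (N : ℕ) {B : ℕ → Type v} (g : ∀ k, B (k + 1) → B k),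
    (∀ k, Function.Surjective (g k)) → ∀ y : B N,
      ∃ z : ∀ k, B k, (∀ k, g k (z (k + 1)) = z k) ∧ z N = y
  | 0, B, g, hg, y =>
    ⟨fun k => Nat.rec y (fun j zj => Classical.choose (hg j zj)) k,
      fun k => Classical.choose_spec (hg k _), rfl⟩
  | N + 1, B, g, hg, y => by
    obtain ⟨z', hz', hy⟩ := exists_compatible N (B := fun k => B (k + 1)) (fun k => g (k + 1))
      (fun k => hg (k + 1)) y
    exact ⟨fun k => match k with | 0 => g 0 (z' 0) | j + 1 => z' j,
      fun k => match k with | 0 => rfl | j + 1 => hz' j, hy⟩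

/-- An adic system of modules together with a limit of it. -/
structure AdicLimit (I : Ideal A) (M : ℕ → Type v) [∀ n, AddCommGroup (M n)] [∀ n, Module A (M n)]
    (L : Type w) [AddCommGroup L] [Module A L] where
  f : ∀ n, M (n + 1) →ₗ[A] M n
  surj_f : ∀ n, Function.Surjective (f n)
  ker_f : ∀ n, LinearMap.ker (f n) = I ^ (n + 1) • (⊤ : Submodule A (M (n + 1)))
  π : ∀ n, L →ₗ[A] M n
  comp_π : ∀ n, f n ∘ₗ π (n + 1) = π n
  joint_inj : ∀ x : L, (∀ n, π n x = 0) → x = 0
  lift : ∀ y : (∀ n, M n), (∀ n, f n (y (n + 1)) = y n) → ∃ x : L, ∀ n, π n x = y n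

namespace AdicLimit

variable {M : ℕ → Type v} [∀ n, AddCommGroup (M n)] [∀ n, Module A (M n)]
  {L : Type w} [AddCommGroup L] [Module A L] (S : AdicLimit I M L)

include S

theorem f_π (n : ℕ) (x : L) : S.f n (S.π (n + 1) x) = S.π n x := LinearMap.congr_fun (S.comp_π n) x

/-- The composite transition map `M (n + d) → M n`. -/
noncomputable def tr (n : ℕ) : ∀ d, M (n + d) →ₗ[A] M n
  | 0 => LinearMap.id
  | d + 1 => tr n d ∘ₗ S.f (n + d)

theorem tr_π (n d : ℕ) (x : L) : S.tr n d (S.π (n + d) x) = S.π n x := by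
  induction d with
  | zero => rfl
  | succ d ih => exact (congrArg (S.tr n d) (S.f_π (n + d) x)).trans ih

theorem pow_smul_eq_bot (n : ℕ) : I ^ (n + 1) • (⊤ : Submodule A (M n)) = ⊥ := by
  have h : Submodule.map (S.f n) (I ^ (n + 1) • ⊤) = I ^ (n + 1) • (⊤ : Submodule A (M n)) := by
    rw [Submodule.map_smul'', Submodule.map_top, LinearMap.range_eq_top.2 (S.surj_f n)]
  rw [← h, ← S.ker_f n]
  exact Submodule.map_comap_eq_of_surjective (S.surj_f n) ⊥

theorem pow_smul_eq_bot' {n m : ℕ} (h : n < m) : I ^ m • (⊤ : Submodule A (M n)) = ⊥ :=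
  eq_bot_iff.2 ((Submodule.smul_mono_left (Ideal.pow_le_pow_right h)).trans (S.pow_smul_eq_bot n).le)

theorem surjective_π (n : ℕ) : Function.Surjective (S.π n) := by
  induction n with
  | zero =>
    intro y
    let z : ∀ k, M k := fun k => Nat.rec y (fun j zj => Classical.choose (S.surj_f j zj)) k
    obtain ⟨x, hx⟩ := S.lift z fun k => Classical.choose_spec (S.surj_f k (z k))
    exact ⟨x, hx 0⟩
  | succ n ih =>
    intro y
    obtain ⟨x, hx⟩ := ih (S.f n y)
    have hd : y - S.π (n + 1) x ∈ LinearMap.ker (S.f n) := by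
      simp [S.f_π n x, hx]
    rw [S.ker_f n] at hd
    have hle : (I ^ (n + 1) • ⊤ : Submodule A (M (n + 1))) ≤ LinearMap.range (S.π (n + 1)) ⊔
        I ^ (n + 1 + 1) • ⊤ := by
      refine Submodule.smul_le.2 fun a ha z _ => ?_
      obtain ⟨w, hw⟩ := ih (S.f n z)
      have hz : z - S.π (n + 1) w ∈ I ^ (n + 1) • (⊤ : Submodule A (M (n + 1))) := by
        rw [← S.ker_f n]; simp [S.f_π n w, hw]
      rw [show a • z = S.π (n + 1) (a • w) + a • (z - S.π (n + 1) w) by
        rw [map_smul, smul_sub]; abel]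
      refine add_mem (Submodule.mem_sup_left ⟨_, rfl⟩) (Submodule.mem_sup_right ?_)
      have := Submodule.smul_mem_smul ha hz
      rw [← Submodule.mul_smul, ← pow_add] at this
      exact Submodule.smul_mono_left (Ideal.pow_le_pow_right (by omega)) this
    rw [S.pow_smul_eq_bot (n + 1), sup_bot_eq] at hle
    obtain ⟨w, hw⟩ := hle hd
    exact ⟨x + w, by rw [map_add, hw]; abel⟩

theorem pow_smul_le_ker (n : ℕ) : I ^ (n + 1) • (⊤ : Submodule A L) ≤ LinearMap.ker (S.π n) := by
  rw [LinearMap.le_ker_iff_map, Submodule.map_smul'', Submodule.map_top,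
    LinearMap.range_eq_top.2 (S.surjective_π n), S.pow_smul_eq_bot n]

theorem map_pow_smul_eq (n d : ℕ) : Submodule.map (S.π d) (I ^ n • ⊤) = I ^ n • ⊤ := by
  rw [Submodule.map_smul'', Submodule.map_top, LinearMap.range_eq_top.2 (S.surjective_π d)]

theorem isHausdorff : IsHausdorff I L :=
  ⟨fun x hx => S.joint_inj x fun n => LinearMap.mem_ker.1
    (S.pow_smul_le_ker n (SModEq.zero.1 (hx (n + 1))))⟩

theorem π_eq_of_smodEq {n : ℕ} {x y : L} (h : x ≡ y [SMOD (I ^ (n + 1) • ⊤ : Submodule A L)]) :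
    S.π n x = S.π n y := by
  rw [← sub_eq_zero, ← map_sub]
  exact LinearMap.mem_ker.1 (S.pow_smul_le_ker n (SModEq.sub_mem.1 h))

theorem isPrecomplete_of_ker
    (hk : ∀ n, LinearMap.ker (S.π n) = I ^ (n + 1) • (⊤ : Submodule A L)) : IsPrecomplete I L := by
  refine ⟨fun g hg => ?_⟩
  obtain ⟨x, hx⟩ := S.lift (fun n => S.π n (g (n + 1))) fun n => by
    rw [S.f_π n]
    exact S.π_eq_of_smodEq (hg (Nat.le_succ (n + 1))).symm
  refine ⟨x, fun n => SModEq.sub_mem.2 ?_⟩
  cases n with
  | zero => simp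
  | succ n => rw [← hk n, LinearMap.mem_ker, map_sub, hx n, sub_self]

theorem isAdicComplete_of_ker
    (hk : ∀ n, LinearMap.ker (S.π n) = I ^ (n + 1) • (⊤ : Submodule A L)) : IsAdicComplete I L :=
  { S.isHausdorff, S.isPrecomplete_of_ker hk with }

/-- Kernels of the projections, when some precomplete module surjects onto all levels. -/
theorem surjective_and_ker_of_precomplete {P : Type x} [AddCommGroup P]
    [Module A P] [IsPrecomplete I P] (φ : P →ₗ[A] L) (h0 : Function.Surjective (S.π 0 ∘ₗ φ)) :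
    Function.Surjective φ ∧ ∀ n, LinearMap.ker (S.π n) = I ^ (n + 1) • (⊤ : Submodule A L) := by
  have hlev : ∀ n, Function.Surjective (S.π n ∘ₗ φ) := by
    intro n
    induction n with
    | zero => exact h0
    | succ n ih =>
      intro y
      obtain ⟨p, hp⟩ := ih (S.f n y)
      have hd : y - S.π (n + 1) (φ p) ∈ I ^ (n + 1) • (⊤ : Submodule A (M (n + 1))) := by
        rw [← S.ker_f n]; simp [S.f_π n, ← hp]
      have hle : (I ^ (n + 1) • ⊤ : Submodule A (M (n + 1))) ≤
          LinearMap.range (S.π (n + 1) ∘ₗ φ) := by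
        refine Submodule.smul_le.2 fun a ha z _ => ?_
        obtain ⟨q, hq⟩ := ih (S.f n z)
        have hz : z - S.π (n + 1) (φ q) ∈ I ^ (n + 1) • (⊤ : Submodule A (M (n + 1))) := by
          rw [← S.ker_f n]; simp [S.f_π n, ← hq]
        have := Submodule.smul_mem_smul ha hz
        rw [← Submodule.mul_smul, ← pow_add, S.pow_smul_eq_bot' (by omega), Submodule.mem_bot,
          smul_sub, sub_eq_zero] at this
        exact ⟨a • q, by simp [this]⟩
      obtain ⟨q, hq⟩ := hle hd
      exact ⟨p + q, by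
        simp only [LinearMap.coe_comp, Function.comp_apply, map_add] at hq ⊢; rw [hq]; abel⟩
  have key : ∀ n (x : L), S.π n x = 0 → ∃ c ∈ I ^ (n + 1) • (⊤ : Submodule A P), φ c = x := by
    intro n x hx
    have step : ∀ m (c : P), S.π m (x - φ c) = 0 → ∃ d ∈ I ^ (m + 1) • (⊤ : Submodule A P),
        S.π (m + 1) (x - φ (c + d)) = 0 := by
      intro m c hc
      have h1 : S.π (m + 1) (x - φ c) ∈ LinearMap.ker (S.f m) := by
        rw [LinearMap.mem_ker, S.f_π m, hc]
      rw [S.ker_f m, ← LinearMap.range_eq_top.2 (hlev (m + 1)), ← Submodule.map_top,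
        ← Submodule.map_smul''] at h1
      obtain ⟨d, hd, hde⟩ := h1
      refine ⟨d, hd, ?_⟩
      simp only [LinearMap.coe_comp, Function.comp_apply] at hde
      simp only [map_add, map_sub, hde]
      abel
    choose d hd hdz using step
    let c : ℕ → {c : Σ' m : ℕ, P // S.π (n + c.1) (x - φ c.2) = 0} := fun k =>
      Nat.rec ⟨⟨0, 0⟩, by simpa using hx⟩
        (fun j cj => ⟨⟨cj.1.1 + 1, cj.1.2 + d (n + cj.1.1) cj.1.2 cj.2⟩, hdz _ _ cj.2⟩) k
    have hidx : ∀ k, (c k).1.1 = k := by
      intro k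
      induction k with
      | zero => rfl
      | succ k ih => show (c k).1.1 + 1 = k + 1; rw [ih]
    let e : ℕ → P := fun k => (c k).1.2
    have hdiff : ∀ k, e k ≡ e (k + 1) [SMOD (I ^ (n + k + 1) • ⊤ : Submodule A P)] := by
      intro k
      rw [SModEq.sub_mem]
      change (c k).1.2 - ((c k).1.2 + d (n + (c k).1.1) (c k).1.2 (c k).2) ∈ _
      rw [sub_add_cancel_left]
      have := hd (n + (c k).1.1) (c k).1.2 (c k).2
      exact neg_mem (by simpa only [hidx k] using this)
    have hcauchy : ∀ {i j}, i ≤ j → e i ≡ e j [SMOD (I ^ (n + i + 1) • ⊤ : Submodule A P)] := by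
      intro i j hij
      induction j, hij using Nat.le_induction with
      | base => rfl
      | succ j hij ih =>
        exact ih.trans (SModEq.sub_mem.2 (Submodule.smul_mono_left
          (Ideal.pow_le_pow_right (by omega)) (SModEq.sub_mem.1 (hdiff j))))
    obtain ⟨C, hC⟩ := IsPrecomplete.prec ‹IsPrecomplete I P› (f := fun k => e k) fun {i j} hij =>
      SModEq.sub_mem.2 (Submodule.smul_mono_left (Ideal.pow_le_pow_right (by omega))
        (SModEq.sub_mem.1 (hcauchy hij)))
    have hCk : ∀ k, e k - C ∈ I ^ (n + k + 1) • (⊤ : Submodule A P) := fun k => by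
      have h1 := SModEq.sub_mem.1 (hcauchy (show k ≤ n + k + 1 by omega))
      have h2 := SModEq.sub_mem.1 (hC (n + k + 1))
      simpa using add_mem h1 h2
    refine ⟨C, ?_, (sub_eq_zero.1 (S.joint_inj _ fun m => ?_)).symm⟩
    · have h := hCk 0
      have h0' : e 0 = 0 := rfl
      rw [h0', zero_sub, neg_mem_iff, add_zero] at h
      exact h
    · have h1 : S.π (n + m) (x - φ (e m)) = 0 := by
        have := (c m).2; rw [hidx m] at this; exact this
      have h2 : S.π (n + m) (φ (e m) - φ C) = 0 := by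
        rw [← map_sub φ]
        refine LinearMap.mem_ker.1 (S.pow_smul_le_ker (n + m) ?_)
        have := Submodule.mem_map_of_mem (f := φ) (hCk m)
        rw [Submodule.map_smul''] at this
        exact Submodule.smul_mono le_rfl le_top this
      have h3 : S.π (n + m) (x - φ C) = 0 := by
        rw [← sub_add_sub_cancel x (φ (e m)) (φ C), map_add, h1, h2, add_zero]
      have h4 : ∀ a b (h : a = b), S.π a (x - φ C) = 0 → S.π b (x - φ C) = 0 := fun a b h => h ▸ id
      rw [← S.tr_π m n (x - φ C), h4 _ _ (Nat.add_comm n m) h3, map_zero]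
  refine ⟨fun x => ?_, fun n => le_antisymm (fun x hx => ?_) (S.pow_smul_le_ker n)⟩
  · obtain ⟨p, hp⟩ := hlev 0 (S.π 0 x)
    obtain ⟨c, -, hc⟩ := key 0 (x - φ p) (by simp [← hp])
    exact ⟨p + c, by rw [map_add, hc]; abel⟩
  · obtain ⟨c, hc, rfl⟩ := key n x hx
    have := Submodule.mem_map_of_mem (f := φ) hc
    rw [Submodule.map_smul''] at this
    exact Submodule.smul_mono le_rfl le_top this

/-- Over a precomplete base, a limit of a system with `M 0` finite is finite. -/
theorem finite_and_ker [IsPrecomplete I A] (h0 : Module.Finite A (M 0)) :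
    Module.Finite A L ∧ ∀ n, LinearMap.ker (S.π n) = I ^ (n + 1) • (⊤ : Submodule A L) := by
  obtain ⟨r, p, hp⟩ := Module.Finite.exists_fin' A (M 0)
  obtain ⟨φ, hφ⟩ := Module.projective_lifting_property (S.π 0) p (S.surjective_π 0)
  have := isPrecomplete_pi I (A := A) (Fin r)
  obtain ⟨hsurj, hker⟩ := S.surjective_and_ker_of_precomplete φ (by rw [hφ]; exact hp)
  exact ⟨Module.Finite.of_surjective φ hsurj, hker⟩

/-- The kernels of the projections when the ideal is finitely generated. -/
theorem ker_of_fg (hI : I.FG) (n : ℕ) :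
    LinearMap.ker (S.π n) = I ^ (n + 1) • (⊤ : Submodule A L) := by
  refine le_antisymm (fun x hx => ?_) (S.pow_smul_le_ker n)
  obtain ⟨r, a, ha⟩ := Submodule.fg_iff_exists_fin_generating_family.1 (hI.pow (n := n + 1))
  have hgen : ∀ (j : ℕ) (e : M (n + 1 + j)), e ∈ I ^ (n + 1 + j) • (⊤ : Submodule A (M (n + 1 + j))) →
      ∃ z : Fin r → M (n + 1 + j), (∀ i, z i ∈ I ^ j • (⊤ : Submodule A (M (n + 1 + j)))) ∧
        e = ∑ i, a i • z i := by
    intro j e he
    rw [pow_add, Submodule.mul_smul] at he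
    refine Submodule.smul_induction_on he (fun b hb w hw => ?_) (fun e e' he he' => ?_)
    · rw [← ha] at hb
      obtain ⟨c, rfl⟩ := (Submodule.mem_span_range_iff_exists_fun A).1 hb
      refine ⟨fun i => c i • w, fun i => Submodule.smul_mem _ _ hw, ?_⟩
      rw [Finset.sum_smul]
      exact Finset.sum_congr rfl fun i _ => by rw [smul_smul, smul_eq_mul, mul_comm]
    · obtain ⟨z, hz, rfl⟩ := he
      obtain ⟨z', hz', rfl⟩ := he'
      exact ⟨z + z', fun i => add_mem (hz i) (hz' i), by simp [smul_add, Finset.sum_add_distrib]⟩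
  have step : ∀ (j : ℕ) (y : Fin r → M (n + j)),
      (∑ i, a i • y i) = S.π (n + j) x → ∃ y' : Fin r → M (n + (j + 1)),
        (∑ i, a i • y' i) = S.π (n + (j + 1)) x ∧
          ∀ i, S.f (n + j) (y' i) - y i ∈ I ^ j • (⊤ : Submodule A (M (n + j))) := by
    intro j y hy
    choose w hw using fun i => S.surj_f (n + j) (y i)
    have he : S.π (n + j + 1) x - ∑ i, a i • w i ∈
        I ^ (n + 1 + j) • (⊤ : Submodule A (M (n + j + 1))) := by
      rw [show n + 1 + j = n + j + 1 by omega, ← S.ker_f (n + j), LinearMap.mem_ker, map_sub,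
        S.f_π, map_sum]
      simp [hw, hy]
    have aux : ∀ (N : ℕ), n + 1 + j = N → ∀ e : M N,
        e ∈ I ^ (n + 1 + j) • (⊤ : Submodule A (M N)) →
          ∃ z : Fin r → M N, (∀ i, z i ∈ I ^ j • (⊤ : Submodule A (M N))) ∧
            e = ∑ i, a i • z i := by
      rintro N rfl e he
      exact hgen j e he
    obtain ⟨z, hz, hez⟩ := aux (n + j + 1) (by omega) _ he
    refine ⟨fun i => w i + z i, ?_, fun i => ?_⟩
    · simp [smul_add, Finset.sum_add_distrib, ← hez]; rfl
    · rw [map_add, hw, add_sub_cancel_left]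
      have := Submodule.mem_map_of_mem (f := S.f (n + j)) (hz i)
      rw [Submodule.map_smul''] at this
      exact Submodule.smul_mono le_rfl le_top this
  choose y' hy' hy'd using step
  let Y : ∀ j : ℕ, {y : Fin r → M (n + j) // (∑ i, a i • y i) = S.π (n + j) x} := fun j =>
    Nat.rec ⟨0, by simpa using (LinearMap.mem_ker.1 hx).symm⟩
      (fun j Yj => ⟨y' j Yj.1 Yj.2, hy' j Yj.1 Yj.2⟩) j
  have hY : ∀ j i, S.f (n + j) ((Y (j + 1)).1 i) - (Y j).1 i ∈
      I ^ j • (⊤ : Submodule A (M (n + j))) := fun j i => hy'd j (Y j).1 (Y j).2 i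
  -- move to the lower levels, where the families become compatible
  have castM : ∀ (a b : ℕ) (h : a = b), ∃ e : M a →ₗ[A] M b, ∀ v : L, e (S.π a v) = S.π b v := by
    rintro a b rfl; exact ⟨LinearMap.id, fun _ => rfl⟩
  have key : ∀ k, ∃ T : M (n + (k + 1)) →ₗ[A] M k, ∀ v : L, T (S.π (n + (k + 1)) v) = S.π k v := by
    intro k
    obtain ⟨e, he⟩ := castM (n + (k + 1)) (k + (n + 1)) (by omega)
    exact ⟨S.tr k (n + 1) ∘ₗ e, fun v => by simp [he, S.tr_π]⟩
  choose T hT using key
  have Tcomp : ∀ k (v : M (n + (k + 2))),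
      S.f k (T (k + 1) v) = T k (S.f (n + (k + 1)) v) := by
    intro k v
    obtain ⟨v', rfl⟩ := S.surjective_π _ v
    rw [hT, S.f_π]
    exact ((congrArg (T k) (S.f_π (n + (k + 1)) v')).trans (hT k v')).symm
  obtain ⟨z, hz⟩ : ∃ z : Fin r → L, ∀ i k, S.π k (z i) = T k ((Y (k + 1)).1 i) := by
    choose z hz using fun i => S.lift (fun k => T k ((Y (k + 1)).1 i)) fun k => by
      rw [Tcomp, ← sub_eq_zero, ← map_sub]
      have := Submodule.mem_map_of_mem (f := T k) (hY (k + 1) i)
      rw [Submodule.map_smul''] at this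
      have := (Submodule.smul_mono le_rfl le_top) this
      rwa [S.pow_smul_eq_bot k, Submodule.mem_bot] at this
    exact ⟨z, hz⟩
  have hx' : x = ∑ i, a i • z i := sub_eq_zero.1 (S.joint_inj _ fun k => by
    rw [map_sub, map_sum, sub_eq_zero, ← hT k x, ← (Y (k + 1)).2, map_sum]
    exact Finset.sum_congr rfl fun i _ => by rw [map_smul, map_smul, hz])
  rw [hx']
  exact Submodule.sum_mem _ fun i _ =>
    Submodule.smul_mem_smul (ha ▸ Submodule.subset_span ⟨i, rfl⟩) trivial

end AdicLimit

end Groth.Agent.AdicRing
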